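import Groth.Agent.SiteCoh.ExtDerived

/-!
# `R^n Hom(X, -) = Ext^n(X, -)`, naturally in the second variable
-/

set_option autoImplicit false

universe v u

open CategoryTheory CategoryTheory.Limits CategoryTheory.Abelian

namespace Groth.Agent.ExtSuppLib.DerivedExt

open Groth.Agent.SiteCoh.ExtDerived

variable {A : Type u} [Category.{v} A] [Abelian A] [HasExt.{v} A] (X : A)

section

variable {Y : A} (R : InjectiveResolution Y) (n : ℕ)

theorem toCycles_cls (j : ℕ) :
    (homCx X R).toCycles j n ≫ AddCommGrpCat.ofHom (cls X R n) = 0 := by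
  by_cases h : (ComplexShape.up ℕ).Rel j n
  · obtain rfl : j + 1 = n := h
    ext g
    exact (cls_succ_eq_zero_iff X R j _).2 ⟨g, rfl⟩
  · have : (homCx X R).toCycles j n = 0 := by
      rw [← cancel_mono ((homCx X R).iCycles n), zero_comp, HomologicalComplex.toCycles_i]
      exact (homCx X R).shape j n h
    rw [this, zero_comp]

/-- The class map on the cohomology of `Hom(X, I •)`. -/
noncomputable def toExt : (homCx X R).homology n ⟶ AddCommGrpCat.of (Ext X Y n) :=
  ((homCx X R).homologyIsCokernel ((ComplexShape.up ℕ).prev n) n rfl).desc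
    (CokernelCofork.ofπ (AddCommGrpCat.ofHom (cls X R n)) (toCycles_cls X R n _))

@[reassoc (attr := simp)]
theorem π_toExt : (homCx X R).homologyπ n ≫ toExt X R n = AddCommGrpCat.ofHom (cls X R n) :=
  ((homCx X R).homologyIsCokernel ((ComplexShape.up ℕ).prev n) n rfl).fac _ WalkingParallelPair.one

theorem toExt_bijective : Function.Bijective (toExt X R n) := by
  have hsurj : Function.Surjective ((homCx X R).homologyπ n) :=
    (AddCommGrpCat.epi_iff_surjective _).1 inferInstance
  have hc : ∀ z, toExt X R n ((homCx X R).homologyπ n z) = cls X R n z := fun z =>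
    ConcreteCategory.congr_hom (π_toExt X R n) z
  refine ⟨?_, fun e => ?_⟩
  · rw [injective_iff_map_eq_zero]
    intro x hx
    obtain ⟨z, rfl⟩ := hsurj x
    rw [hc] at hx
    rcases n with _ | p
    · have : z = 0 := cls_zero_injective X R (hx.trans (map_zero _).symm)
      rw [this, map_zero]
    · obtain ⟨g, rfl⟩ := (cls_succ_eq_zero_iff X R p z).1 hx
      exact ConcreteCategory.congr_hom ((homCx X R).toCycles_comp_homologyπ p (p + 1)) g
  · obtain ⟨z, rfl⟩ := cls_surjective X R n e
    exact ⟨_, hc z⟩

theorem isIso_toExt : IsIso (toExt X R n) :=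
  (ConcreteCategory.isIso_iff_bijective _).2 (toExt_bijective X R n)

/-- The comparison isomorphism. -/
noncomputable def homologyIso : (homCx X R).homology n ≅ AddCommGrpCat.of (Ext X Y n) :=
  have := isIso_toExt X R n
  asIso (toExt X R n)

end

variable [HasInjectiveResolutions A]

/-- `R^n Hom(X, -) ≅ Ext^n(X, -)`. -/
noncomputable def rightDerivedExtIso (n : ℕ) :
    (preadditiveCoyoneda.obj (Opposite.op X)).rightDerived n ≅ extFunctorObj X n :=
  NatIso.ofComponents
    (fun Z => (injectiveResolution Z).isoRightDerivedObj _ n ≪≫
      homologyIso X (injectiveResolution Z) n)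
    (fun {Z W} φ => by
      let g : (injectiveResolution Z).Hom (injectiveResolution W) φ :=
        { hom := InjectiveResolution.desc φ (injectiveResolution W) (injectiveResolution Z)
          ι_f_zero_comp_hom_f_zero :=
            (InjectiveResolution.desc_commutes_zero _ _ _).trans
              (by rw [CochainComplex.single₀_map_f_zero]; rfl) }
      simp only [Iso.trans_hom, Category.assoc]
      rw [InjectiveResolution.isoRightDerivedObj_hom_naturality_assoc φ _ _ g.hom
        (InjectiveResolution.desc_commutes_zero _ _ _)]
      congr 1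
      change HomologicalComplex.homologyMap _ n ≫ toExt X _ n = toExt X _ n ≫ _
      rw [← cancel_epi ((homCx X (injectiveResolution Z)).homologyπ n),
        HomologicalComplex.homologyπ_naturality_assoc, π_toExt, π_toExt_assoc]
      ext z
      change cls X (injectiveResolution W) n _ =
        (cls X (injectiveResolution Z) n z).comp (Ext.mk₀ φ) (add_zero n)
      refine Eq.trans ?_ (InjectiveResolution.extMk_comp_mk₀ _ _ rfl
        (iCycles_comp_d X (injectiveResolution Z) n z) g).symm
      exact extMk_congr _ (ConcreteCategory.congr_hom (HomologicalComplex.cyclesMap_i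
        (((preadditiveCoyoneda.obj (Opposite.op X)).mapHomologicalComplex (ComplexShape.up ℕ)).map g.hom) n) z)
          (iCycles_comp_d X (injectiveResolution W) n _) _)

end Groth.Agent.ExtSuppLib.DerivedExt
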