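import Groth.Agent.ExtSuppLib.Compare
import Groth.Agent.ExtSuppLib.DerivedExt
import Groth.Agent.GrothSS.Main
import Groth.Agent.GrothSS.Acyclic
import Groth.Agent.SiteCoh.AbutTransport
import Groth.Agent.SiteCoh.PushDerived
import Groth.Agent.ModShf.ToSheaf
import Mathlib.CategoryTheory.Preadditive.Yoneda.Limits

/-!
# Derived functors of global sections with supports
-/

set_option autoImplicit false

universe u

open CategoryTheory CategoryTheory.Limits Opposite

namespace Groth.Agent.ExtSuppLib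

open ModSite Groth.Agent.SiteCoh

/-- A natural isomorphism gives an isomorphism of right derived functors. -/
noncomputable def rightDerivedMapIso {A B : Type*} [Category A] [Category B] [Abelian A] [Abelian B]
    [HasInjectiveResolutions A] {F G : A ⥤ B} [F.Additive] [G.Additive] (e : F ≅ G) (n : ℕ) :
    F.rightDerived n ≅ G.rightDerived n where
  hom := NatTrans.rightDerived e.hom n
  inv := NatTrans.rightDerived e.inv n
  hom_inv_id := by rw [← NatTrans.rightDerived_comp, e.hom_inv_id, NatTrans.rightDerived_id]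
  inv_hom_id := by rw [← NatTrans.rightDerived_comp, e.inv_hom_id, NatTrans.rightDerived_id]

variable {C : Type u} [SmallCategory C] {J : GrothendieckTopology C} {O : Sheaf J CommRingCat.{u}}

/-- `G ↦ Hom(Q, G)` on modules, through the underlying abelian sheaf. -/
noncomputable abbrev homAbFrom (O : Sheaf J CommRingCat.{u}) (Q : Sheaf J AddCommGrpCat.{u}) :
    Mod O ⥤ AddCommGrpCat.{u} :=
  SheafOfModules.toSheaf (ringSh O) ⋙ preadditiveCoyoneda.obj (op Q)

theorem extP_of_injective (I : Mod O) [Injective I] : ExtP I := fun _ _ f hf g => by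
  refine exists_ext_injective I f (fun W => ?_) g
  intro a b hab
  have h := hf W (O.obj.obj W)
  have h2 := @h (a ⊗ₜ (1 : O.obj.obj W)) (b ⊗ₜ (1 : O.obj.obj W))
    (congrArg (fun t => t ⊗ₜ (1 : O.obj.obj W)) hab)
  have h3 := congrArg (TensorProduct.rid (O.obj.obj W) _) h2
  rw [TensorProduct.rid_tmul, TensorProduct.rid_tmul, one_smul, one_smul] at h3
  exact h3

/-- The derived functors of `Hom(Q, -)` on modules are `Ext_Ab(Q, -)` for torsion-free `Q`. -/
theorem nonempty_rightDerived_homAbFrom [HasInjectiveResolutions (Mod O)]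
    {Q : Sheaf J AddCommGrpCat.{u}} (hQ : TF Q) (G : Mod O) (p : ℕ) :
    Nonempty (((homAbFrom O Q).rightDerived p).obj G ≅
      AddCommGrpCat.of (Abelian.Ext Q (toAb G) p)) := by
  let F := preadditiveCoyoneda.obj (op Q)
  have : PreservesFiniteLimits F := inferInstanceAs (PreservesFiniteLimits (preadditiveCoyoneda.obj (op Q)))
  have hI : ∀ X : Mod O, Injective X →
      GrothSS.Acyclic.Acy F ((SheafOfModules.toSheaf (ringSh O)).obj X) := fun X _ q hq => by
    obtain ⟨k, rfl⟩ : ∃ k, q = k + 1 := ⟨q - 1, by omega⟩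
    obtain ⟨e⟩ := ExtDerived.nonempty_rightDerived_iso Q (toAb X) (k + 1)
    have := subsingleton_ext_toAb (extP_of_injective X) hQ k
    exact (AddCommGrpCat.isZero_of_subsingleton _).of_iso e
  obtain ⟨e⟩ := ExtDerived.nonempty_rightDerived_iso Q (toAb G) p
  exact ⟨(ModShf.AcyclicRes.compareIso (SheafOfModules.toSheaf (ringSh O)) F
    (GrothSS.Acyclic.goodClass F) hI p).app G ≪≫ e⟩

theorem isZero_rightDerived_homAbFrom [HasInjectiveResolutions (Mod O)]
    {Q : Sheaf J AddCommGrpCat.{u}} (hQ : TF Q) {G : Mod O} (hG : ExtP G) (p : ℕ) (hp : 0 < p) :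
    IsZero (((homAbFrom O Q).rightDerived p).obj G) := by
  obtain ⟨k, rfl⟩ : ∃ k, p = k + 1 := ⟨p - 1, by omega⟩
  obtain ⟨e⟩ := nonempty_rightDerived_homAbFrom hQ G (k + 1)
  have := subsingleton_ext_toAb hG hQ k
  exact (AddCommGrpCat.isZero_of_subsingleton _).of_iso e

/-- The Grothendieck spectral sequence with abutment and second page transported. -/
theorem exists_ss {A : Type (u + 1)} [Category.{u} A] [Abelian A] [EnoughInjectives A]
    {B : Type (u + 1)} [Category.{u} B] [Abelian B] [EnoughInjectives B]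
    (T : A ⥤ B) [T.Additive] (S : B ⥤ AddCommGrpCat.{u}) [S.Additive] [PreservesFiniteLimits S]
    (hT : ∀ Q : A, Injective Q → ∀ q : ℕ, 0 < q → IsZero ((S.rightDerived q).obj (T.obj Q)))
    (X : A) (H : ℕ → AddCommGrpCat.{u}) (G : ℕ → ℕ → AddCommGrpCat.{u})
    (eH : ∀ n, Nonempty (((T ⋙ S).rightDerived n).obj X ≅ H n))
    (eG : ∀ p q, Nonempty ((S.rightDerived p).obj ((T.rightDerived q).obj X) ≅ G p q)) :
    ∃ (E : E₂CohomologicalSpectralSequence AddCommGrpCat.{u})
      (a : SpSeq.Abutment E (fun n : ℤ =>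
        if 0 ≤ n then H n.toNat else AddCommGrpCat.of PUnit.{u + 1})),
      (∀ n, a.IsFinite n) ∧ SpSeq.IsBounded E ∧
      ∀ p q : ℤ, Nonempty ((E.page 2 le_rfl).X (p, q) ≅
        (if 0 ≤ p ∧ 0 ≤ q then G p.toNat q.toNat else AddCommGrpCat.of PUnit.{u + 1})) := by
  obtain ⟨E, a, ha, hb, he⟩ := GrothSS.Main.exists_spectralSequence T S hT X
  obtain ⟨a', ha'⟩ := AbutTransport.exists_abutment a ha
    (H' := fun n : ℤ => if 0 ≤ n then H n.toNat else AddCommGrpCat.of PUnit.{u + 1}) (fun n => by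
      by_cases hn : 0 ≤ n
      · simp only [if_pos hn]
        exact eH _
      · simp only [if_neg hn]
        exact ⟨(isZero_zero _).iso (AddCommGrpCat.isZero_of_subsingleton _)⟩)
  refine ⟨E, a', ha', hb, fun p q => ?_⟩
  obtain ⟨e⟩ := he p q
  by_cases hpq : 0 ≤ p ∧ 0 ≤ q
  · rw [if_pos hpq] at e ⊢
    obtain ⟨e'⟩ := eG p.toNat q.toNat
    exact ⟨e ≪≫ e'⟩
  · rw [if_neg hpq] at e ⊢
    exact ⟨e ≪≫ (isZero_zero _).iso (AddCommGrpCat.isZero_of_subsingleton _)⟩

variable (U : C) [HasPushOver O U] (M N : Mod O) [HasSheafHom M]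

/-- `R^n Γ(Γ_Z ℋom(M, -))` is Ext with supports. -/
theorem nonempty_rightDerived_gammaZHom [HasExt.{u} (Mod O)] [HasInjectiveResolutions (Mod O)]
    (n : ℕ) :
    Nonempty (((ExtSupp.gammaZHom U M).rightDerived n).obj N ≅
      AddCommGrpCat.of (ExtSupp.ExtZ U M N n)) :=
  ⟨((rightDerivedMapIso (gammaZHomIso M U).symm n ≪≫
    DerivedExt.rightDerivedExtIso ((quotOn O U).obj M) n).app N)⟩

end Groth.Agent.ExtSuppLib
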