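import Groth.Agent.ExtSuppLib.Vanish
import Mathlib.CategoryTheory.Limits.Types.Products

/-!
# Global sections with supports as morphisms
-/

set_option autoImplicit false

universe u

open CategoryTheory CategoryTheory.Limits MonoidalCategory Opposite

namespace Groth.Agent.ExtSuppLib

open ModSite Groth.Agent.KFlat Groth.Agent.SiteCoh

variable {C : Type u} [SmallCategory C] {J : GrothendieckTopology C} {O : Sheaf J CommRingCat.{u}}

/-! ### `Hom(M, N) = Hom(O, ℋom(M, N))` -/

section Gamma

variable (M : Mod O) [HasSheafHom M]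

/-- `shPre (𝟙 ⊗ M) ≅ M`. -/
noncomputable def unitTensorIso :
    (shPre O).obj ((𝟙_ (preMod O)) ⊗ (toPre O).obj M) ≅ M :=
  (shPre O).mapIso (λ_ ((toPre O).obj M)) ≪≫ asIso ((preAdj O).counit.app M)

instance additive_sheafHom_toPre : (sheafHom M ⋙ toPre O).Additive := inferInstance

/-- `Hom(M, N) ≅ Hom(O, ℋom(M, N))`. -/
noncomputable def hom0 (N : Mod O) : (M ⟶ N) →+ (unit O ⟶ (sheafHom M).obj N) where
  toFun ψ := ⟨(preHomAdj M).homEquiv (𝟙_ (preMod O)) N ((unitTensorIso M).hom ≫ ψ)⟩
  map_zero' := by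
    apply SheafOfModules.hom_ext
    change (preHomAdj M).homEquiv (𝟙_ (preMod O)) N ((unitTensorIso M).hom ≫ 0) = 0
    rw [comp_zero]
    exact ((preHomAdj M).homEquiv_unit _ _ _).trans (by rw [Functor.map_zero, comp_zero])
  map_add' a b := by
    apply SheafOfModules.hom_ext
    change (preHomAdj M).homEquiv (𝟙_ (preMod O)) N ((unitTensorIso M).hom ≫ (a + b)) =
      (preHomAdj M).homEquiv (𝟙_ (preMod O)) N ((unitTensorIso M).hom ≫ a) +
        (preHomAdj M).homEquiv (𝟙_ (preMod O)) N ((unitTensorIso M).hom ≫ b)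
    rw [Preadditive.comp_add]
    simp only [Adjunction.homEquiv_unit, Functor.map_add, Preadditive.comp_add]

theorem hom0_bijective (N : Mod O) : Function.Bijective (hom0 M N) := by
  have h1 : Function.Bijective (fun ψ : M ⟶ N =>
      (preHomAdj M).homEquiv (𝟙_ (preMod O)) N ((unitTensorIso M).hom ≫ ψ)) :=
    ((preHomAdj M).homEquiv _ N).bijective.comp
      ((Iso.homFromEquiv (unitTensorIso M)).symm.bijective)
  refine ⟨fun a b h => h1.1 (congrArg SheafOfModules.Hom.val h), fun φ => ?_⟩
  obtain ⟨ψ, hψ⟩ := h1.2 φ.val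
  exact ⟨ψ, SheafOfModules.hom_ext hψ⟩

theorem hom0_naturality {N N' : Mod O} (ψ : M ⟶ N) (g : N ⟶ N') :
    hom0 M N' (ψ ≫ g) = hom0 M N ψ ≫ (sheafHom M).map g := by
  apply SheafOfModules.hom_ext
  change (preHomAdj M).homEquiv (𝟙_ (preMod O)) N' ((unitTensorIso M).hom ≫ ψ ≫ g) =
    (preHomAdj M).homEquiv (𝟙_ (preMod O)) N ((unitTensorIso M).hom ≫ ψ) ≫
      (sheafHom M ⋙ toPre O).map g
  rw [← (preHomAdj M).homEquiv_naturality_right, Category.assoc]

theorem restr_hom0_eq_zero_iff (U : C) {N : Mod O} (ψ : M ⟶ N) :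
    (restr O U).map (hom0 M N ψ) = 0 ↔ (restr O U).map ψ = 0 := by
  let jψ : (shPre O).obj ((𝟙_ (preMod O)) ⊗ (toPre O).obj M) ⟶ N := (unitTensorIso M).hom ≫ ψ
  let φ : 𝟙_ (preMod O) ⟶ (toPre O).obj ((sheafHom M).obj N) := (preHomAdj M).homEquiv _ N jψ
  rw [restr_map_eq_zero_iff]
  change VanishesOver U φ ↔ _
  constructor
  · intro h
    have h2 : (restr O U).map jψ = 0 := by
      have : jψ = (shPre O).map (φ ▷ (toPre O).obj M) ≫ (preHomAdj M).counit.app N :=
        (((preHomAdj M).homEquiv (𝟙_ (preMod O)) N).symm_apply_apply jψ).symm.trans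
          ((preHomAdj M).homEquiv_counit _ _ _)
      rw [this]
      apply restr_map_eq_zero_of_vanishesOver
      intro W w x
      rw [(preAdj O).homEquiv_naturality_left, PresheafOfModules.comp_app]
      change ((preAdj O).homEquiv _ N ((preHomAdj M).counit.app N)).app (op W)
        ((φ ▷ (toPre O).obj M).app (op W) x) = 0
      have hx : (φ ▷ (toPre O).obj M).app (op W) x = 0 := by
        induction x using TensorProduct.induction_on with
        | zero => exact map_zero _
        | tmul a m =>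
          change (φ.app (op W)) a ⊗ₜ m = 0
          rw [h w a]
          exact TensorProduct.zero_tmul _ _
        | add a b ha hb => exact (map_add _ a b).trans ((congrArg₂ (· + ·) ha hb).trans (add_zero 0))
      rw [hx, map_zero]
    rw [Functor.map_comp] at h2
    exact (cancel_epi ((restr O U).map (unitTensorIso M).hom)).1 (h2.trans comp_zero.symm)
  · intro h W w r
    have hk : VanishesOver U ((preAdj O).homEquiv _ N jψ) := by
      apply (restr_map_eq_zero_iff_adjunct U jψ).1
      rw [Functor.map_comp, h, comp_zero]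
    let s : (PresheafOfModules.free _).obj (yoneda.obj W) ⟶ 𝟙_ (preMod O) :=
      PresheafOfModules.freeYonedaEquiv.symm r
    have hs : s ≫ φ = 0 := by
      apply ((preHomAdj M).homEquiv _ N).symm.injective
      apply ((preAdj O).homEquiv _ N).injective
      rw [(preHomAdj M).homEquiv_naturality_left_symm, Equiv.symm_apply_apply]
      have hR : ((preAdj O).homEquiv ((PresheafOfModules.free _).obj (yoneda.obj W) ⊗ (toPre O).obj M) N)
          (((preHomAdj M).homEquiv _ N).symm 0) = 0 := by
        rw [Adjunction.homEquiv_counit, Functor.map_zero, zero_comp, Adjunction.homEquiv_unit,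
          Functor.map_zero, comp_zero]
      refine Eq.trans ?_ hR.symm
      refine ((preAdj O).homEquiv_naturality_left (s ▷ (toPre O).obj M) jψ).trans ?_
      apply PresheafOfModules.hom_ext
      intro V
      ext x
      change ((preAdj O).homEquiv _ N jψ).app V ((s ▷ (toPre O).obj M).app V x) = 0
      induction x using TensorProduct.induction_on with
      | zero => exact (congrArg _ (map_zero _)).trans (map_zero _)
      | tmul a m =>
        by_cases hV : Nonempty (V.unop ⟶ W)
        · obtain ⟨v⟩ := hV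
          exact hk (W := V.unop) (v ≫ w) _
        · have : IsEmpty ((yoneda.obj W).obj V) := ⟨fun v => hV ⟨v⟩⟩
          have ha : a = 0 := Finsupp.ext fun i => (this.false i).elim
          rw [ha, TensorProduct.zero_tmul]
          exact (congrArg _ (map_zero _)).trans (map_zero _)
      | add a b ha hb =>
        exact (congrArg _ (map_add _ a b)).trans ((map_add _ _ _).trans
          ((congrArg₂ (· + ·) ha hb).trans (add_zero 0)))
    have := congrArg (fun f => PresheafOfModules.freeYonedaEquiv f) hs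
    simp only [PresheafOfModules.freeYonedaEquiv_comp] at this
    rw [Equiv.apply_symm_apply] at this
    exact this

/-- `Hom(M/M_U, N) → Hom(O, Γ_Z ℋom(M, N))`. -/
noncomputable def gammaMap (U : C) [HasPushOver O U] (N : Mod O) :
    ((quotOn O U).obj M ⟶ N) →+ (unit O ⟶ (sectOn O U).obj ((sheafHom M).obj N)) :=
  AddMonoidHom.mk' (fun f => sectOnLift U (hom0 M N ((quotOnπ O U).app M ≫ f))
      ((restr_hom0_eq_zero_iff M U _).2 (restr_map_quotOnπ_comp U f)))
    (fun a b => sectOn_hom_ext U (by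
      rw [Preadditive.add_comp, sectOnLift_ι, sectOnLift_ι, sectOnLift_ι, Preadditive.comp_add,
        map_add]))

theorem gammaMap_bijective (U : C) [HasPushOver O U] (N : Mod O) :
    Function.Bijective (gammaMap M U N) := by
  refine ⟨fun a b h => ?_, fun φ => ?_⟩
  · have h' := congrArg (· ≫ (sectOnι O U).app _) h
    simp only [gammaMap, AddMonoidHom.mk'_apply, sectOnLift_ι] at h'
    exact quotOn_hom_ext U ((hom0_bijective M N).1 h')
  · obtain ⟨ψ, hψ⟩ := (hom0_bijective M N).2 (φ ≫ (sectOnι O U).app _)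
    have h0 : (restr O U).map ψ = 0 := (restr_hom0_eq_zero_iff M U ψ).1 (by
      rw [hψ]; exact restr_map_comp_sectOnι U φ)
    refine ⟨quotOnDesc U ψ h0, sectOn_hom_ext U ?_⟩
    simp only [gammaMap, AddMonoidHom.mk'_apply, sectOnLift_ι, quotOnπ_desc, hψ]

/-- `Hom(M/M_U, -) ≅ Γ(Γ_Z ℋom(M, -))`. -/
noncomputable def gammaZHomIso (U : C) [HasPushOver O U] :
    preadditiveCoyoneda.obj (op ((quotOn O U).obj M)) ≅ ExtSupp.gammaZHom U M :=
  NatIso.ofComponents
    (fun N => (AddEquiv.ofBijective (gammaMap M U N) (gammaMap_bijective M U N)).toAddCommGrpIso)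
    (fun {N N'} g => by
      ext f
      apply sectOn_hom_ext U
      change gammaMap M U N' (f ≫ g) ≫ _ =
        (gammaMap M U N f ≫ (sectOn O U).map ((sheafHom M).map g)) ≫ _
      simp only [gammaMap, AddMonoidHom.mk'_apply, sectOnLift_ι, Category.assoc,
        (sectOnι O U).naturality, sectOnLift_ι_assoc, Functor.id_map]
      rw [← hom0_naturality, Category.assoc])

end Gamma

/-! ### Maps out of the constant sheaf and out of `ℤ/ℤ_U` -/

section Global

variable (O)

/-- The map `ℤ ⟶ O`. -/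
noncomputable def cZ : (constantSheaf J AddCommGrpCat.{u}).obj (AddCommGrpCat.of (ULift ℤ)) ⟶
    toAb (unit O) :=
  ((sheafificationAdjunction J AddCommGrpCat.{u}).homEquiv _ _).symm
    { app := fun W => AddCommGrpCat.ofHom
        ((zmultiplesHom ((unit O).val.obj W) (1 : O.obj.obj W)).comp AddEquiv.ulift.toAddMonoidHom)
      naturality := fun X Y f => by
        ext z
        change z.down • (1 : O.obj.obj Y) = (O.obj.map f).hom (z.down • (1 : O.obj.obj X))
        rw [map_zsmul, map_one] }

variable {O}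

theorem cZ_adjunct {G : Mod O} (φ : unit O ⟶ G) (W : Cᵒᵖ) :
    (((sheafificationAdjunction J AddCommGrpCat.{u}).homEquiv
      ((Functor.const Cᵒᵖ).obj (AddCommGrpCat.of (ULift.{u} ℤ))) (toAb G))
        (cZ O ≫ (SheafOfModules.toSheaf _).map φ)).app W ⟨1⟩ = φ.val.app W (1 : O.obj.obj W) := by
  rw [Adjunction.homEquiv_naturality_right]
  erw [Equiv.apply_symm_apply]
  change φ.val.app W ((1 : ℤ) • (1 : O.obj.obj W)) = _
  rw [one_smul]

/-- `Hom(O, G) → Hom(ℤ, G)`. -/
noncomputable def globalMap (G : Mod O) : (unit O ⟶ G) →+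
    ((constantSheaf J AddCommGrpCat.{u}).obj (AddCommGrpCat.of (ULift ℤ)) ⟶ toAb G) :=
  AddMonoidHom.mk' (fun φ => cZ O ≫ (SheafOfModules.toSheaf _).map φ)
    (fun a b => by rw [Functor.map_add, Preadditive.comp_add])

theorem globalMap_bijective (G : Mod O) : Function.Bijective (globalMap G) := by
  refine ⟨fun a b h => ?_, fun b => ?_⟩
  · apply (SheafOfModules.unitHomEquiv G).injective
    apply Subtype.ext
    funext W
    exact ((cZ_adjunct a W).symm.trans (congrArg (fun t => (((sheafificationAdjunction J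
      AddCommGrpCat.{u}).homEquiv ((Functor.const Cᵒᵖ).obj (AddCommGrpCat.of (ULift.{u} ℤ)))
        (toAb G)) t).app W ⟨1⟩) h)).trans (cZ_adjunct b W)
  · let b' := ((sheafificationAdjunction J AddCommGrpCat.{u}).homEquiv
      ((Functor.const Cᵒᵖ).obj (AddCommGrpCat.of (ULift.{u} ℤ))) (toAb G)) b
    let x : G.sections := ⟨fun W => b'.app W ⟨1⟩, fun {X Y} f =>
      (NatTrans.naturality_apply b' f ⟨1⟩).symm⟩
    refine ⟨(SheafOfModules.unitHomEquiv G).symm x, ?_⟩
    apply ((sheafificationAdjunction J AddCommGrpCat.{u}).homEquiv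
      ((Functor.const Cᵒᵖ).obj (AddCommGrpCat.of (ULift.{u} ℤ))) (toAb G)).injective
    ext W ⟨z⟩
    have hz : (⟨z⟩ : ULift.{u} ℤ) = z • ⟨1⟩ := ULift.ext _ _ (by simp)
    rw [hz, map_zsmul, map_zsmul]
    congr 1
    refine (cZ_adjunct ((SheafOfModules.unitHomEquiv G).symm x) W).trans ?_
    exact congrArg (fun t : G.sections => t.val W) ((SheafOfModules.unitHomEquiv G).apply_symm_apply x)

variable (O)

/-- `Hom(O, -) ≅ Hom(ℤ, -)`. -/
noncomputable def globalIso :
    preadditiveCoyoneda.obj (op (unit O)) ≅ SheafOfModules.toSheaf (ringSh O) ⋙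
      preadditiveCoyoneda.obj (op ((constantSheaf J AddCommGrpCat.{u}).obj
        (AddCommGrpCat.of (ULift ℤ)))) :=
  NatIso.ofComponents
    (fun G => (AddEquiv.ofBijective (globalMap G) (globalMap_bijective G)).toAddCommGrpIso)
    (fun {G G'} g => by
      ext φ
      change cZ O ≫ (SheafOfModules.toSheaf _).map (φ ≫ g) =
        (cZ O ≫ (SheafOfModules.toSheaf _).map φ) ≫ (SheafOfModules.toSheaf _).map g
      rw [Functor.map_comp, Category.assoc])

/-- The map `ℤ[*] ⟶ O`. -/
noncomputable def cT : (ToposFin.freeAb J).obj (⊤_ (Sheaf J (Type u))) ⟶ toAb (unit O) :=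
  ((Free.adj J).homEquiv _ _).symm
    { app := fun W => ↾fun _ => (1 : O.obj.obj W)
      naturality := fun X Y f => by
        ext t
        exact (map_one (O.obj.map f).hom).symm }

variable {O}

/-- The value at a section of the adjunct of a map out of a free abelian sheaf. -/
noncomputable def setAdjunct {P : Cᵒᵖ ⥤ Type u} {G : Mod O} (d : (Free.freePre J).obj P ⟶ toAb G)
    (W : Cᵒᵖ) (s : P.obj W) : G.val.obj W :=
  ((Free.adj J).homEquiv P (toAb G) d).app W s

theorem setAdjunct_ext {P : Cᵒᵖ ⥤ Type u} {G : Mod O} {d d' : (Free.freePre J).obj P ⟶ toAb G}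
    (h : ∀ W s, setAdjunct d W s = setAdjunct d' W s) : d = d' := by
  apply ((Free.adj J).homEquiv P (toAb G)).injective
  ext W s
  exact h W s

theorem setAdjunct_map {P Q : Cᵒᵖ ⥤ Type u} {G : Mod O} (f : P ⟶ Q)
    (d : (Free.freePre J).obj Q ⟶ toAb G) (W : Cᵒᵖ) (s : P.obj W) :
    setAdjunct ((Free.freePre J).map f ≫ d) W s = setAdjunct d W (f.app W s) :=
  congrArg (fun t => t.app W s) ((Free.adj J).homEquiv_naturality_left f d)

theorem setAdjunct_zero {P : Cᵒᵖ ⥤ Type u} {G : Mod O} (W : Cᵒᵖ) (s : P.obj W) :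
    setAdjunct (0 : (Free.freePre J).obj P ⟶ toAb G) W s = 0 := by
  rw [setAdjunct, Adjunction.homEquiv_unit]
  rfl

theorem setAdjunct_restrict {P : Cᵒᵖ ⥤ Type u} {G : Mod O} (d : (Free.freePre J).obj P ⟶ toAb G)
    {V W : Cᵒᵖ} (f : V ⟶ W) (s : P.obj V) :
    G.val.map f (setAdjunct d V s) = setAdjunct d W (P.map f s) :=
  (NatTrans.naturality_apply ((Free.adj J).homEquiv P (toAb G) d) f s).symm

theorem cT_adjunct {G : Mod O} (φ : unit O ⟶ G) (W : Cᵒᵖ) (t : (⊤_ (Sheaf J (Type u))).obj.obj W) :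
    setAdjunct (cT O ≫ (SheafOfModules.toSheaf _).map φ) W t = φ.val.app W (1 : O.obj.obj W) := by
  rw [setAdjunct, Adjunction.homEquiv_naturality_right]
  erw [Equiv.apply_symm_apply]
  rfl

theorem terminal_unique (W : Cᵒᵖ) : Nonempty (Unique ((⊤_ (Sheaf J (Type u))).obj.obj W)) :=
  ⟨Types.isTerminalEquivUnique _ (IsTerminal.isTerminalObj
    (sheafToPresheaf J (Type u) ⋙ (evaluation Cᵒᵖ (Type u)).obj W) _ terminalIsTerminal)⟩

variable (U : C)

theorem freeMap_comp_adjunct_eq {G : Mod O} (φ : unit O ⟶ G) (h : (restr O U).map φ = 0) :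
    (ToposFin.freeAb J).map (terminal.from (ToposFin.eps J U)) ≫
      cT O ≫ (SheafOfModules.toSheaf _).map φ = 0 := by
  refine setAdjunct_ext (P := (ToposFin.eps J U).obj) fun W s => ?_
  refine (setAdjunct_map (terminal.from (ToposFin.eps J U)).hom _ W s).trans ?_
  refine (cT_adjunct φ W _).trans (Eq.trans ?_ (setAdjunct_zero W s).symm)
  refine Sheaf.isSeparated (toAb G) W.unop _
    (Presheaf.imageSieve_mem J (CategoryTheory.toSheafify J (yoneda.obj U)) s) _ _ (fun V v hv => ?_)
  obtain ⟨t, -⟩ := hv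
  refine (PresheafOfModules.naturality_apply φ.val v.op (1 : O.obj.obj W)).symm.trans ?_
  exact ((restr_map_eq_zero_iff U φ).1 h (W := V) t _).trans (map_zero _).symm

/-- `Hom(O, Γ_Z G) → Hom(ℤ/ℤ_U, G)`. -/
noncomputable def suppMap [HasPushOver O U] (G : Mod O) :
    (unit O ⟶ (sectOn O U).obj G) →+ (ToposFin.quotZ (ToposFin.eps J U) ⟶ toAb G) :=
  AddMonoidHom.mk' (fun φ => cokernel.desc _ (cT O ≫ (SheafOfModules.toSheaf _).map
      (φ ≫ (sectOnι O U).app G)) (freeMap_comp_adjunct_eq U _ (restr_map_comp_sectOnι U φ)))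
    (fun a b => coequalizer.hom_ext (by
      simp only [cokernel.π_desc, Preadditive.comp_add, Preadditive.add_comp, Functor.map_add]))

theorem eq_of_unit_one {G : Mod O} {a b : unit O ⟶ G}
    (h : ∀ W, a.val.app W (1 : O.obj.obj W) = b.val.app W (1 : O.obj.obj W)) : a = b :=
  (SheafOfModules.unitHomEquiv G).injective (Subtype.ext (funext h))

theorem exists_unit_hom_of_adjunct {G : Mod O}
    (d : (Free.freePre J).obj (⊤_ (Sheaf J (Type u))).obj ⟶ toAb G) :
    ∃ ψ : unit O ⟶ G, cT O ≫ (SheafOfModules.toSheaf _).map ψ = d := by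
  let pt : ∀ W : Cᵒᵖ, (⊤_ (Sheaf J (Type u))).obj.obj W := fun W =>
    (terminal_unique (J := J) W).some.default
  have hpt : ∀ (W : Cᵒᵖ) (t : (⊤_ (Sheaf J (Type u))).obj.obj W), t = pt W := fun W t =>
    (terminal_unique (J := J) W).some.uniq t
  let x : G.sections := ⟨fun W => setAdjunct d W (pt W), fun {X Y} f =>
    (setAdjunct_restrict d f (pt X)).trans (congrArg (setAdjunct d Y) (hpt Y _))⟩
  refine ⟨(SheafOfModules.unitHomEquiv G).symm x,
    setAdjunct_ext (P := (⊤_ (Sheaf J (Type u))).obj) fun W t => ?_⟩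
  refine (cT_adjunct _ W t).trans ?_
  exact (congrArg (fun z : G.sections => z.val W)
    ((SheafOfModules.unitHomEquiv G).apply_symm_apply x)).trans
      (congrArg (setAdjunct d W) (hpt W t).symm)

theorem restr_eq_zero_of_freeMap {G : Mod O} (ψ : unit O ⟶ G)
    (h : (ToposFin.freeAb J).map (terminal.from (ToposFin.eps J U)) ≫
      cT O ≫ (SheafOfModules.toSheaf _).map ψ = 0) : (restr O U).map ψ = 0 := by
  rw [restr_map_eq_zero_iff]
  intro W w r
  let s : (ToposFin.eps J U).obj.obj (op W) :=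
    (CategoryTheory.toSheafify J (yoneda.obj U)).app (op W) w
  have h1 : ψ.val.app (op W) (1 : O.obj.obj (op W)) = 0 :=
    (((setAdjunct_map (terminal.from (ToposFin.eps J U)).hom _ (op W) s).trans
      (cT_adjunct ψ (op W) _)).symm).trans
      ((congrArg (fun d => setAdjunct (P := (ToposFin.eps J U).obj) d (op W) s) h).trans
        (setAdjunct_zero (op W) s))
  have h2 : ψ.val.app (op W) ((show O.obj.obj (op W) from r) * 1 : O.obj.obj (op W)) = 0 :=
    (map_smul (ψ.val.app (op W)).hom (show O.obj.obj (op W) from r)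
      (1 : O.obj.obj (op W))).trans ((congrArg (_ • ·) h1).trans (smul_zero _))
  rw [mul_one] at h2
  exact h2

theorem suppMap_bijective [HasPushOver O U] (G : Mod O) : Function.Bijective (suppMap U G) := by
  refine ⟨fun a b h => sectOn_hom_ext U (eq_of_unit_one fun W => ?_), fun d => ?_⟩
  · have h' := congrArg (fun t => cokernel.π _ ≫ t) h
    simp only [suppMap, AddMonoidHom.mk'_apply, cokernel.π_desc] at h'
    obtain ⟨hu⟩ := terminal_unique (J := J) W
    exact (cT_adjunct _ W hu.default).symm.trans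
      ((congrArg (fun t => setAdjunct (P := (⊤_ (Sheaf J (Type u))).obj) t W hu.default) h').trans
        (cT_adjunct _ W hu.default))
  · obtain ⟨ψ, hψ⟩ := exists_unit_hom_of_adjunct
      (cokernel.π ((ToposFin.freeAb J).map (terminal.from (ToposFin.eps J U))) ≫ d)
    have h0 : (restr O U).map ψ = 0 := restr_eq_zero_of_freeMap U ψ (by
      rw [hψ, ← Category.assoc, cokernel.condition, zero_comp])
    refine ⟨sectOnLift U ψ h0, coequalizer.hom_ext ?_⟩
    refine (cokernel.π_desc _ _ _).trans ?_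
    rw [sectOnLift_ι]
    exact hψ

/-- `Γ(Γ_Z -) ≅ Hom(ℤ/ℤ_U, -)`. -/
noncomputable def suppIso [HasPushOver O U] :
    sectOn O U ⋙ preadditiveCoyoneda.obj (op (unit O)) ≅ SheafOfModules.toSheaf (ringSh O) ⋙
      preadditiveCoyoneda.obj (op (ToposFin.quotZ (ToposFin.eps J U))) :=
  NatIso.ofComponents
    (fun G => (AddEquiv.ofBijective (suppMap U G) (suppMap_bijective U G)).toAddCommGrpIso)
    (fun {G G'} g => by
      ext φ
      apply coequalizer.hom_ext
      change cokernel.π _ ≫ suppMap U G' (φ ≫ (sectOn O U).map g) =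
        cokernel.π _ ≫ suppMap U G φ ≫ (SheafOfModules.toSheaf _).map g
      simp only [suppMap, AddMonoidHom.mk'_apply, cokernel.π_desc, cokernel.π_desc_assoc]
      rw [Category.assoc, Category.assoc, (sectOnι O U).naturality, ← Category.assoc φ,
        Functor.map_comp]
      rfl)

/-! ### The sheaves `ℤ` and `ℤ/ℤ_U` are torsion-free -/

theorem tf_constantSheaf : TF ((constantSheaf J AddCommGrpCat.{u}).obj (AddCommGrpCat.of (ULift ℤ))) :=
  tf_presheafToSheaf _ fun _ => Function.Injective.isAddTorsionFree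
    (AddEquiv.ulift : ULift.{u} ℤ ≃+ ℤ).toAddMonoidHom (AddEquiv.ulift : ULift.{u} ℤ ≃+ ℤ).injective

theorem isAddTorsionFree_cokernel_free {S T : Type u} [Subsingleton T] (f : S ⟶ T) :
    IsAddTorsionFree (cokernel (AddCommGrpCat.free.map f) : AddCommGrpCat.{u}) := by
  by_cases hS : Nonempty S
  · obtain ⟨s⟩ := hS
    have : IsSplitEpi f :=
      ⟨⟨⟨↾fun _ => s, by ext t; exact Subsingleton.elim _ _⟩⟩⟩
    have := AddCommGrpCat.subsingleton_of_isZero (isZero_cokernel_of_epi (AddCommGrpCat.free.map f))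
    exact ⟨fun n _ a b _ => Subsingleton.elim a b⟩
  · have : IsEmpty S := not_nonempty_iff.1 hS
    have hsub : Subsingleton (AddCommGrpCat.free.obj S) :=
      (FreeAbelianGroup.equivFinsupp S).injective.subsingleton
    have h0 : AddCommGrpCat.free.map f = 0 := (IsZero.eq_of_src
      (AddCommGrpCat.isZero_of_subsingleton _) _ _)
    let e : cokernel (AddCommGrpCat.free.map f) ≅ AddCommGrpCat.free.obj T :=
      cokernelIsoOfEq h0 ≪≫ cokernelZeroIsoTarget
    have := isAddTorsionFree_free T
    exact Function.Injective.isAddTorsionFree e.addCommGroupIsoToAddEquiv.toAddMonoidHom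
      e.addCommGroupIsoToAddEquiv.injective

theorem tf_quotZ : TF (ToposFin.quotZ (ToposFin.eps J U)) := by
  let a := Functor.whiskerRight (terminal.from (ToposFin.eps J U)).hom AddCommGrpCat.free.{u}
  let e : (presheafToSheaf J AddCommGrpCat.{u}).obj (cokernel a) ≅
      ToposFin.quotZ (ToposFin.eps J U) := PreservesCokernel.iso (presheafToSheaf J AddCommGrpCat.{u}) a
  refine tf_of_mono e.inv (tf_presheafToSheaf _ fun W => ?_)
  let eW : ((evaluation Cᵒᵖ AddCommGrpCat.{u}).obj W).obj (cokernel a) ≅ cokernel (a.app W) :=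
    PreservesCokernel.iso ((evaluation Cᵒᵖ AddCommGrpCat.{u}).obj W) a
  obtain ⟨hu⟩ := terminal_unique (J := J) W
  have : Subsingleton ((⊤_ (Sheaf J (Type u))).obj.obj W) := hu.instSubsingleton
  have : IsAddTorsionFree (cokernel (a.app W) : AddCommGrpCat.{u}) :=
    isAddTorsionFree_cokernel_free _
  exact Function.Injective.isAddTorsionFree eW.addCommGroupIsoToAddEquiv.toAddMonoidHom
    eW.addCommGroupIsoToAddEquiv.injective

end Global

end Groth.Agent.ExtSuppLib
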