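import Groth.Agent.ExtSuppLib.Main
import Groth.Agent.ModShf.Flasque
import Groth.Agent.RDerLES

/-!
# Sheaves with the extension property are flasque; acyclicity of good classes
-/

set_option autoImplicit false

universe v v' u u' w

open CategoryTheory CategoryTheory.Limits Opposite AlgebraicGeometry TopologicalSpace

namespace Groth.Agent.ExtSuppLib

open ModSite

section Good

variable {B : Type u} [Category.{v} B] [Abelian B] [EnoughInjectives B]
  {D : Type u'} [Category.{v'} D] [Abelian D] (F : B ⥤ D) [F.Additive] [PreservesFiniteLimits F]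
  {P : ObjectProperty B}

/-- The objects of a good class are acyclic. -/
theorem acy_of_goodClass (hP : ModShf.AcyclicRes.GoodClass F P) :
    ∀ (k : ℕ) (X : B), P X → IsZero ((F.rightDerived (k + 1)).obj X) := by
  intro k
  induction k with
  | zero =>
    intro X hX
    let S := SiteCoh.DimShift.inj X
    have hS : S.ShortExact := SiteCoh.DimShift.inj_shortExact X
    have he : Epi (F.map S.g) := hP.epi S hS hX
    have : Epi ((F.rightDerived 0).map S.g) :=
      ((MorphismProperty.epimorphisms D).arrow_mk_iso_iff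
        (Arrow.isoMk (F.rightDerivedZeroIsoSelf.app S.X₂) (F.rightDerivedZeroIsoSelf.app S.X₃)
          (F.rightDerivedZeroIsoSelf.hom.naturality S.g).symm :
          Arrow.mk ((F.rightDerived 0).map S.g) ≅ Arrow.mk (F.map S.g))).2 he
    let Δ := Groth.Agent.RDerLES.derivedLES F
    have hδ : Δ.δ S hS 0 1 rfl = 0 := by
      rw [← cancel_epi ((F.rightDerived 0).map S.g), comp_zero]
      exact Δ.comp_δ S hS 0 1 rfl
    exact (Δ.exact₁ S hS 0 1 rfl).isZero_of_both_zeros hδ
      ((F.isZero_rightDerived_obj_injective_succ 0 S.X₂).eq_of_tgt _ _)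
  | succ k ih =>
    intro X hX
    let S := SiteCoh.DimShift.inj X
    have hS : S.ShortExact := SiteCoh.DimShift.inj_shortExact X
    have hQ : P S.X₃ := hP.coker S hS hX (hP.of_injective S.X₂ inferInstance)
    exact ((Groth.Agent.RDerLES.derivedLES F).exact₁ S hS (k + 1) (k + 1 + 1) rfl).isZero_of_both_zeros
      ((ih _ hQ).eq_of_src _ _) ((F.isZero_rightDerived_obj_injective_succ (k + 1) S.X₂).eq_of_tgt _ _)

end Good

section Site

variable {C : Type w} [SmallCategory C] {J : GrothendieckTopology C} {O : Sheaf J CommRingCat.{w}}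

theorem pUInj_free_map {P Q : Cᵒᵖ ⥤ Type w} (f : P ⟶ Q) (hf : ∀ W, Function.Injective (f.app W)) :
    PUInj (O := O) ((PresheafOfModules.free _).map f) := fun W T _ _ => by
  let r : (Q.obj W →₀ O.obj.obj W) →ₗ[O.obj.obj W] (P.obj W →₀ O.obj.obj W) :=
    Finsupp.lcomapDomain (f.app W) (hf W)
  let i := Finsupp.lmapDomain (O.obj.obj W) (O.obj.obj W) (f.app W)
  have h : r.comp i = LinearMap.id :=
    LinearMap.ext (Finsupp.leftInverse_lcomapDomain_mapDomain (R := O.obj.obj W) (M := O.obj.obj W) (f.app W) (hf W))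
  have h' : (r.rTensor T).comp (i.rTensor T) = LinearMap.id := by
    rw [← LinearMap.rTensor_comp, h, LinearMap.rTensor_id]
  exact Function.LeftInverse.injective (g := r.rTensor T) (LinearMap.congr_fun h')

/-- Sections of a sheaf with the extension property extend along monomorphisms of the site. -/
theorem surjective_map_of_extP {G : Mod O} (hG : ExtP G) {V W : C} (g : V ⟶ W) [Mono g] :
    Function.Surjective (G.val.map g.op) := fun s => by
  obtain ⟨h, hh⟩ := hG ((PresheafOfModules.free _).map (yoneda.map g))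
    (pUInj_free_map _ fun Z a b hab => (cancel_mono g).1 hab)
    (PresheafOfModules.freeYonedaEquiv.symm s)
  refine ⟨PresheafOfModules.freeYonedaEquiv h, ?_⟩
  have h1 := congrArg PresheafOfModules.freeYonedaEquiv hh
  rw [Equiv.apply_symm_apply, PresheafOfModules.freeYonedaEquiv_comp] at h1
  refine Eq.trans ?_ h1
  refine (PresheafOfModules.naturality_apply h g.op (ModuleCat.freeMk (𝟙 W))).symm.trans ?_
  refine congrArg (h.app (op V)) ?_
  refine (ModuleCat.freeDesc_apply (R := O.obj.obj (op W))
    (M := (ModuleCat.restrictScalars (O.obj.map g.op).hom).obj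
      ((ModuleCat.free (O.obj.obj (op V))).obj ((yoneda.obj W).obj (op V))))
    (↾fun x ↦ ModuleCat.freeMk ((yoneda.obj W).map g.op x)) (𝟙 W)).trans ?_
  refine Eq.trans ?_ (ModuleCat.free_map_apply (R := O.obj.obj (op V))
    ((yoneda.map g).app (op V)) (𝟙 V)).symm
  change ModuleCat.freeMk (g ≫ 𝟙 W) = ModuleCat.freeMk (𝟙 V ≫ g)
  rw [Category.id_comp, Category.comp_id]

end Site

/-- Higher direct images of a sheaf with flasque underlying abelian sheaf vanish. -/
theorem isZero_Rpush_of_isFlasque {Y Z : Scheme.{w}} (g : Y ⟶ Z) [HasInjectiveResolutions Y.Modules]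
    (M : Y.Modules) (hM : TopCat.Sheaf.IsFlasque (X := Y.toTopCat) (Coh.toAb M)) (k : ℕ) :
    IsZero ((Coh.Rpush g (k + 1)).obj M) := by
  have : PreservesFiniteLimits (Coh.pushAb g) := ModShf.pushAbPreservesFiniteLimits g
  have h1 : IsZero ((Coh.RpushAb g (k + 1)).obj (Coh.toAb M)) :=
    acy_of_goodClass (Coh.pushAb g) (ModShf.flasque_goodClass g.base) k _ hM
  have h2 : IsZero ((ModShf.toAbFunctor Z).obj ((Coh.Rpush g (k + 1)).obj M)) :=
    h1.of_iso ((ModShf.rpushCompToAb g (k + 1)).app M)
  rw [IsZero.iff_id_eq_zero] at h2 ⊢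
  apply (SheafOfModules.toSheaf.{w} Z.ringCatSheaf).map_injective
  exact (CategoryTheory.Functor.map_id _ _).trans (h2.trans (Functor.map_zero _ _ _).symm)

end Groth.Agent.ExtSuppLib
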