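import Groth.Agent.ExtSuppLib.Extension
import Groth.Agent.SiteCoh.DimShift
import Groth.Agent.SiteCoh.Free
import Mathlib.RingTheory.Flat.TorsionFree
import Mathlib.Algebra.Module.Torsion.Free
import Mathlib.Algebra.Homology.ShortComplex.Ab

/-!
# `Ext^n_Ab(A, X) = 0` for torsion-free `A` when maps into `X` extend
-/

set_option autoImplicit false

universe v u'' u

open CategoryTheory CategoryTheory.Limits CategoryTheory.Abelian Opposite TensorProduct

namespace Groth.Agent.ExtSuppLib

open Groth.Agent.SiteCoh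

/-! ### Higher `Ext` from `Ext¹` -/

section General

variable {A : Type u''} [Category.{v} A] [Abelian A] [EnoughInjectives A] [HasExt.{v} A]

theorem exists_epi_kills (n : ℕ) : ∀ (Q X : A) (x : Ext X Q (n + 1)),
    ∃ (X' : A) (p : X' ⟶ X), Epi p ∧ (Ext.mk₀ p).comp x (zero_add (n + 1)) = 0 := by
  induction n with
  | zero =>
    intro Q X x
    obtain ⟨y, rfl⟩ := DimShift.exists_delta (DimShift.inj_shortExact Q) 0 x
    obtain ⟨g, rfl⟩ := (Ext.mk₀_bijective _ _).2 y
    have := (DimShift.inj_shortExact Q).epi_g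
    refine ⟨pullback g (DimShift.inj Q).g, pullback.fst _ _,
      Abelian.epi_pullback_of_epi_g _ _, ?_⟩
    rw [← Ext.comp_assoc_of_second_deg_zero, Ext.mk₀_comp_mk₀, pullback.condition]
    exact DimShift.delta_comp_eq_zero (DimShift.inj_shortExact Q) _ _
  | succ n ih =>
    intro Q X x
    obtain ⟨y, rfl⟩ := DimShift.exists_delta (DimShift.inj_shortExact Q) (n + 1) x
    obtain ⟨X', p, hp, h⟩ := ih _ X y
    refine ⟨X', p, hp, ?_⟩
    rw [← Ext.comp_assoc _ _ _ (zero_add (n + 1)) rfl (by omega), h, Ext.zero_comp]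

variable (P : A → Prop) (F : A)

theorem subsingleton_ext (hcover : ∀ X, ∃ (Y : A) (p : Y ⟶ X), Epi p ∧ P Y)
    (hker : ∀ {X Y : A} (p : Y ⟶ X), P Y → P (kernel p))
    (h1 : ∀ X, P X → Subsingleton (Ext X F 1)) (n : ℕ) :
    ∀ X, P X → Subsingleton (Ext X F (n + 1)) := by
  induction n with
  | zero => exact h1
  | succ n ih =>
    intro X _
    refine subsingleton_of_forall_eq 0 fun x => ?_
    obtain ⟨X', p, hp, h⟩ := exists_epi_kills (n + 1) F X x
    obtain ⟨Y, q, hq, hY⟩ := hcover X'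
    let S : ShortComplex A := ShortComplex.mk (kernel.ι (q ≫ p)) (q ≫ p) (kernel.condition _)
    have hS : S.ShortExact :=
      { exact := ShortComplex.exact_of_f_is_kernel _ (kernelIsKernel (q ≫ p))
        mono_f := inferInstanceAs (Mono (kernel.ι (q ≫ p)))
        epi_g := epi_comp' hq hp }
    obtain ⟨z, hz⟩ := Ext.contravariant_sequence_exact₃ hS F x (by
      change (Ext.mk₀ (q ≫ p)).comp x _ = 0
      rw [← Ext.mk₀_comp_mk₀, Ext.comp_assoc_of_second_deg_zero, h, Ext.comp_zero])
      (show 1 + (n + 1) = n + 1 + 1 by omega)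
    rw [← hz, (ih _ (hker (q ≫ p) hY)).elim z 0, Ext.comp_zero]

end General

/-! ### Torsion-free abelian sheaves -/

variable {C : Type u} [SmallCategory C] {J : GrothendieckTopology C}

/-- All groups of sections are torsion-free. -/
def TF (A : Sheaf J AddCommGrpCat.{u}) : Prop := ∀ W : Cᵒᵖ, IsAddTorsionFree (A.obj.obj W)

theorem injective_app_of_mono {A B : Sheaf J AddCommGrpCat.{u}} (f : A ⟶ B) [Mono f] (W : Cᵒᵖ) :
    Function.Injective (f.hom.app W) :=
  (AddCommGrpCat.mono_iff_injective _).1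
    (((sheafToPresheaf J AddCommGrpCat.{u}) ⋙ (evaluation Cᵒᵖ AddCommGrpCat.{u}).obj W).map_mono f)

theorem tf_of_mono {A B : Sheaf J AddCommGrpCat.{u}} (f : A ⟶ B) [Mono f] (h : TF B) : TF A := fun W =>
  have := h W
  Function.Injective.isAddTorsionFree (f.hom.app W).hom (injective_app_of_mono f W)

theorem tf_presheafToSheaf (P : Cᵒᵖ ⥤ AddCommGrpCat.{u}) (h : ∀ W, IsAddTorsionFree (P.obj W)) :
    TF ((presheafToSheaf J AddCommGrpCat.{u}).obj P) := fun W => ⟨fun n hn => by
  have : ∀ V, Mono ((n • 𝟙 P).app V) := fun V => by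
    rw [AddCommGrpCat.mono_iff_injective]
    intro a b hab
    have := h V
    exact nsmul_right_injective hn hab
  have : Mono (n • 𝟙 P) := NatTrans.mono_of_mono_app _
  have h2 : Mono ((presheafToSheaf J AddCommGrpCat.{u}).map (n • 𝟙 P)) :=
    (presheafToSheaf J AddCommGrpCat.{u}).map_mono _
  rw [Functor.map_nsmul, CategoryTheory.Functor.map_id] at h2
  exact @injective_app_of_mono _ _ _ _ _ _ h2 W⟩

theorem isAddTorsionFree_free (X : Type u) : IsAddTorsionFree (AddCommGrpCat.free.obj X) :=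
  Function.Injective.isAddTorsionFree (FreeAbelianGroup.equivFinsupp X).toAddMonoidHom
    (FreeAbelianGroup.equivFinsupp X).injective

theorem tf_freePre (P : Cᵒᵖ ⥤ Type u) : TF ((Free.freePre J).obj P) :=
  tf_presheafToSheaf _ fun W => isAddTorsionFree_free (P.obj W)

theorem exists_tf_cover (X : Sheaf J AddCommGrpCat.{u}) :
    ∃ (Y : Sheaf J AddCommGrpCat.{u}) (p : Y ⟶ X), Epi p ∧ TF Y :=
  ⟨_, (Free.adj J).counit.app X, inferInstance, tf_freePre _⟩

/-! ### Extension of scalars of presheaves -/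

section Scalars

open ModSite

variable (O : Sheaf J CommRingCat.{u})

/-- Restriction maps of `O ⊗ P`. -/
noncomputable def otRes (P : Cᵒᵖ ⥤ AddCommGrpCat.{u}) {X Y : Cᵒᵖ} (f : X ⟶ Y) :
    O.obj.obj X ⊗[ℤ] P.obj X →ₛₗ[(O.obj.map f).hom] O.obj.obj Y ⊗[ℤ] P.obj Y where
  toFun := TensorProduct.map (O.obj.map f).hom.toAddMonoidHom.toIntLinearMap
    (P.map f).hom.toIntLinearMap
  map_add' := map_add _
  map_smul' r x := by
    induction x using TensorProduct.induction_on with
    | zero => simp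
    | tmul s p =>
      change (O.obj.map f).hom (r * s) ⊗ₜ[ℤ] (P.map f).hom p =
        ((O.obj.map f).hom r * (O.obj.map f).hom s) ⊗ₜ[ℤ] (P.map f).hom p
      rw [map_mul]
    | add a b ha hb => rw [smul_add, map_add, ha, hb, map_add, smul_add]

/-- `W ↦ O(W) ⊗ P(W)`. -/
noncomputable def ot (P : Cᵒᵖ ⥤ AddCommGrpCat.{u}) : preMod O where
  obj W := ModuleCat.of (O.obj.obj W) (O.obj.obj W ⊗[ℤ] P.obj W)
  map {X Y} f := ModuleCat.semilinearMapAddEquiv _ _ _ (otRes O P f)
  map_id X := by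
    ext (p : P.obj X)
    change (O.obj.map (𝟙 X)).hom 1 ⊗ₜ[ℤ] (P.map (𝟙 X)).hom p = (1 : O.obj.obj X) ⊗ₜ[ℤ] p
    simp
  map_comp {X Y Z} f g := by
    ext (p : P.obj X)
    change (O.obj.map (f ≫ g)).hom 1 ⊗ₜ[ℤ] (P.map (f ≫ g)).hom p =
      (O.obj.map g).hom ((O.obj.map f).hom 1) ⊗ₜ[ℤ] (P.map g).hom ((P.map f).hom p)
    simp

/-- `ot` on morphisms. -/
noncomputable def otMap {P Q : Cᵒᵖ ⥤ AddCommGrpCat.{u}} (a : P ⟶ Q) : ot O P ⟶ ot O Q where
  app W := ModuleCat.ofHom ((a.app W).hom.toIntLinearMap.baseChange (O.obj.obj W))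
  naturality {X Y} f := by
    ext (x : O.obj.obj X ⊗[ℤ] P.obj X)
    induction x using TensorProduct.induction_on with
    | zero => exact (map_zero _).trans (map_zero _).symm
    | tmul s p =>
      exact congrArg ((O.obj.map f).hom s ⊗ₜ[ℤ] ·) (NatTrans.naturality_apply a f p)
    | add u v hu hv =>
      exact (map_add _ u v).trans ((congrArg₂ (· + ·) hu hv).trans (map_add _ u v).symm)

/-- `p ↦ 1 ⊗ p`. -/
noncomputable def otUnit (P : Cᵒᵖ ⥤ AddCommGrpCat.{u}) : P ⟶ (ot O P).presheaf where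
  app W := AddCommGrpCat.ofHom
    { toFun := fun p => ((1 : O.obj.obj W) ⊗ₜ[ℤ] p)
      map_zero' := tmul_zero _ _
      map_add' := fun a b => tmul_add _ a b }
  naturality {X Y} f := by
    ext p
    exact congrArg (· ⊗ₜ[ℤ] (P.map f).hom p) (map_one (O.obj.map f).hom).symm

theorem otUnit_naturality {P Q : Cᵒᵖ ⥤ AddCommGrpCat.{u}} (a : P ⟶ Q) :
    otUnit O P ≫ (PresheafOfModules.toPresheaf _).map (otMap O a) = a ≫ otUnit O Q := by
  ext W p
  rfl

variable {O}

/-- Maps into a presheaf of modules extend linearly. -/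
noncomputable def otDesc {P : Cᵒᵖ ⥤ AddCommGrpCat.{u}} {N : preMod O} (a : P ⟶ N.presheaf) :
    ot O P ⟶ N where
  app W := ModuleCat.ofHom
    ((show P.obj W →+ N.obj W from (a.app W).hom).toIntLinearMap.liftBaseChange (O.obj.obj W) :
      O.obj.obj W ⊗[ℤ] P.obj W →ₗ[O.obj.obj W] N.obj W)
  naturality {X Y} f := by
    ext (x : O.obj.obj X ⊗[ℤ] P.obj X)
    induction x using TensorProduct.induction_on with
    | zero => exact (map_zero _).trans (map_zero _).symm
    | tmul s p =>
      change (O.obj.map f).hom s • (show N.obj Y from (a.app Y).hom ((P.map f).hom p)) =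
        N.map f (s • (show N.obj X from (a.app X).hom p))
      refine Eq.trans ?_ (N.map_smul f s _).symm
      exact congrArg ((O.obj.map f).hom s • ·) (NatTrans.naturality_apply a f p)
    | add u v hu hv =>
      exact (map_add _ u v).trans ((congrArg₂ (· + ·) hu hv).trans (map_add _ u v).symm)

theorem otUnit_desc {P : Cᵒᵖ ⥤ AddCommGrpCat.{u}} {N : preMod O} (a : P ⟶ N.presheaf) :
    otUnit O P ≫ (PresheafOfModules.toPresheaf _).map (otDesc a) = a := by
  ext W p
  exact one_smul (O.obj.obj W) (show N.obj W from (a.app W).hom p)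

theorem pUInj_otMap {P Q : Cᵒᵖ ⥤ AddCommGrpCat.{u}} (a : P ⟶ Q) (W : Cᵒᵖ) {Z : Type u}
    [AddCommGroup Z] [Module.Flat ℤ Z] (g : Q.obj W →ₗ[ℤ] Z) (ha : Function.Injective (a.app W))
    (hag : Function.Exact (a.app W).hom.toIntLinearMap g) (hg : Function.Surjective g) :
    UInj (A := O.obj.obj W) ((otMap O a).app W).hom :=
  uinj_of_exact_flat (A := O.obj.obj W) (g := g.baseChange (O.obj.obj W))
    (lTensor_exact (O.obj.obj W) hag hg)
    ((LinearMap.lTensor_inj_iff_rTensor_inj _ _).2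
      (uinj_of_exact_flat (A := ℤ) hag ha hg (O.obj.obj W)))
    (LinearMap.lTensor_surjective (O.obj.obj W) hg)

/-- Extensions of torsion-free sheaves by `toAb X` split. -/
theorem exists_retraction {X : Mod O} (hX : ExtP X) {E A : Sheaf J AddCommGrpCat.{u}}
    (ι : toAb X ⟶ E) (π : E ⟶ A) (w : ι ≫ π = 0) (hS : (ShortComplex.mk ι π w).ShortExact) (hA : TF A) :
    ∃ r : E ⟶ toAb X, ι ≫ r = 𝟙 _ := by
  have := hS.mono_f
  have hexact : ∀ W : Cᵒᵖ, Function.Exact (ι.hom.app W).hom.toIntLinearMap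
      (π.hom.app W).hom.toIntLinearMap.rangeRestrict := fun W e => by
    have h := hS.exact.map_of_mono_of_preservesKernel
      (sheafToPresheaf J AddCommGrpCat.{u} ⋙ (evaluation Cᵒᵖ AddCommGrpCat.{u}).obj W)
      hS.mono_f inferInstance
    rw [ShortComplex.ab_exact_iff] at h
    constructor
    · intro he
      obtain ⟨x, hx⟩ := h e (congrArg Subtype.val he)
      exact ⟨x, hx⟩
    · rintro ⟨x, rfl⟩
      exact Subtype.ext (congrArg (fun φ => φ.hom.app W x) w)
  have hinj : PUInj (otMap O ι.hom) := fun W => by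
    have := hA W
    have : IsAddTorsionFree (LinearMap.range (π.hom.app W).hom.toIntLinearMap) :=
      Function.Injective.isAddTorsionFree (LinearMap.range _).subtype.toAddMonoidHom
        (Submodule.injective_subtype _)
    exact pUInj_otMap ι.hom W _ (injective_app_of_mono ι W) (hexact W)
      (LinearMap.surjective_rangeRestrict _)
  obtain ⟨h, hh⟩ := hX (otMap O ι.hom) hinj
    (otDesc (N := (toPre O).obj X) (𝟙 ((toAb X).obj) : (toAb X).obj ⟶ ((toPre O).obj X).presheaf))
  refine ⟨⟨otUnit O E.obj ≫ (PresheafOfModules.toPresheaf _).map h⟩, ?_⟩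
  apply Sheaf.hom_ext
  change ι.hom ≫ otUnit O E.obj ≫ (PresheafOfModules.toPresheaf _).map h = _
  refine (Category.assoc _ _ _).symm.trans ?_
  refine (congrArg (· ≫ _) (otUnit_naturality O ι.hom).symm).trans ?_
  refine (Category.assoc _ _ _).trans ?_
  refine (congrArg (otUnit O _ ≫ ·) (((PresheafOfModules.toPresheaf _).map_comp _ _).symm.trans
    (congrArg _ hh))).trans ?_
  exact otUnit_desc _

/-- `Ext^n_Ab(A, X) = 0`, `n > 0`, for torsion-free `A`, when maps into `X` extend. -/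
theorem subsingleton_ext_toAb {X : Mod O} (hX : ExtP X) {A : Sheaf J AddCommGrpCat.{u}} (hA : TF A)
    (n : ℕ) : Subsingleton (Ext A (toAb X) (n + 1)) := by
  refine subsingleton_ext TF (toAb X) exists_tf_cover (fun p h => tf_of_mono (kernel.ι p) h) ?_ n A hA
  intro B hB
  have hT := DimShift.inj_shortExact (toAb X)
  refine DimShift.subsingleton_one hT fun g => ?_
  let T := DimShift.inj (toAb X)
  have := hT.epi_g
  have := hT.mono_f
  let ι : toAb X ⟶ pullback g T.g := pullback.lift 0 T.f (by rw [zero_comp, T.zero])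
  have w : ι ≫ pullback.fst g T.g = 0 := pullback.lift_fst _ _ _
  have hm : Mono ι := mono_of_mono_fac (pullback.lift_snd _ _ _ : ι ≫ pullback.snd g T.g = T.f)
  have hex : (ShortComplex.mk ι (pullback.fst g T.g) w).Exact := by
    refine ShortComplex.exact_of_f_is_kernel _ (KernelFork.IsLimit.ofι' _ _ fun {Z} t ht => ?_)
    refine ⟨hT.exact.lift (t ≫ pullback.snd g T.g) ?_, pullback.hom_ext ?_ ?_⟩
    · rw [Category.assoc, ← pullback.condition, ← Category.assoc, ht, zero_comp]
    · rw [Category.assoc, w, comp_zero, ht]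
    · rw [Category.assoc, pullback.lift_snd, ShortComplex.Exact.lift_f]
  have he : Epi (pullback.fst g T.g) := Abelian.epi_pullback_of_epi_g _ _
  obtain ⟨r, hr⟩ := exists_retraction hX ι (pullback.fst g T.g) w
    { exact := hex, mono_f := hm, epi_g := he } hB
  let σ := ShortComplex.Splitting.ofExactOfRetraction _ hex r hr he
  refine ⟨σ.s ≫ pullback.snd g T.g, ?_⟩
  rw [Category.assoc, ← pullback.condition, ← Category.assoc]
  exact (congrArg (· ≫ g) σ.s_g).trans (Category.id_comp _)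

end Scalars

end Groth.Agent.ExtSuppLib
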