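import Groth.Prelude.Def_ExtSupp
import Groth.Agent.KFlat.Flat

/-!
# Restriction criterion, `quotOn ⊣ sectOn`, and the internal hom on presheaves
-/

set_option autoImplicit false

universe u

open CategoryTheory CategoryTheory.Limits MonoidalCategory Opposite

namespace Groth.Agent.ExtSuppLib

open ModSite Groth.Agent.KFlat

variable {C : Type u} [SmallCategory C] {J : GrothendieckTopology C} {O : Sheaf J CommRingCat.{u}}

/-- A morphism of presheaves of modules which is zero on every object mapping to `U`. -/
def VanishesOver (U : C) {P Q : preMod O} (f : P ⟶ Q) : Prop :=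
  ∀ ⦃W : C⦄ (_ : W ⟶ U) (x : P.obj (op W)), f.app (op W) x = 0

theorem restr_map_eq_zero_iff (U : C) {F G : Mod O} (φ : F ⟶ G) :
    (restr O U).map φ = 0 ↔ VanishesOver U ((toPre O).map φ) := by
  constructor
  · intro h W w x
    exact congrArg (fun ψ : (restr O U).obj F ⟶ (restr O U).obj G =>
      (ψ.val.app (op (Over.mk w))).hom x) h
  · intro h
    apply (SheafOfModules.toSheaf _).map_injective
    ext Y m
    exact h (unop Y).hom m

/-- A morphism out of a sheafification is zero on `U` as soon as its adjunct is. -/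
theorem restr_map_eq_zero_of_vanishesOver (U : C) {P : preMod O} {G : Mod O}
    (φ : (shPre O).obj P ⟶ G) (h : VanishesOver U ((preAdj O).homEquiv _ _ φ)) :
    (restr O U).map φ = 0 := by
  rw [restr_map_eq_zero_iff]
  intro W w s
  have hs := ((isIso_shPre_map_iff ((preAdj O).unit.app P)).1 inferInstance).2
  refine Sheaf.isSeparated (toAb G) W _
    (hs.imageSieve_mem (U := W) s) _ _ (fun V v hv => ?_)
  obtain ⟨t, ht⟩ := hv
  have h0 : ((toPre O).map φ).app (op V) (((preAdj O).unit.app P).app (op V) t) = 0 := by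
    refine Eq.trans ?_ (h (v ≫ w) t)
    rw [Adjunction.homEquiv_unit]
    rfl
  refine (PresheafOfModules.naturality_apply ((toPre O).map φ) v.op s).symm.trans ?_
  refine (congrArg _ ht.symm).trans (h0.trans ?_)
  exact (map_zero ((toAb G).obj.map v.op).hom).symm

theorem restr_map_eq_zero_iff_adjunct (U : C) {P : preMod O} {G : Mod O} (φ : (shPre O).obj P ⟶ G) :
    (restr O U).map φ = 0 ↔ VanishesOver U ((preAdj O).homEquiv _ _ φ) := by
  refine ⟨fun h W w x => ?_, restr_map_eq_zero_of_vanishesOver U φ⟩
  rw [Adjunction.homEquiv_unit]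
  exact (restr_map_eq_zero_iff U φ).1 h w _

section Supports

variable (U : C)

theorem comp_unit_eq_zero_iff [HasPushOver O U] {M N : Mod O} (φ : M ⟶ N) :
    φ ≫ (restrPushOverAdj O U).unit.app N = 0 ↔ (restr O U).map φ = 0 := by
  constructor
  · intro h
    have h2 : (restr O U).map φ ≫ (restr O U).map ((restrPushOverAdj O U).unit.app N) ≫
        (restrPushOverAdj O U).counit.app ((restr O U).obj N) = 0 := by
      rw [← Category.assoc, ← Functor.map_comp, h, Functor.map_zero, zero_comp]
    rwa [(restrPushOverAdj O U).left_triangle_components, Category.comp_id] at h2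
  · intro h
    have : (pushOver O U).Additive := (restrPushOverAdj O U).right_adjoint_additive
    refine ((restrPushOverAdj O U).unit.naturality φ).trans ?_
    change _ ≫ (pushOver O U).map ((restr O U).map φ) = 0
    rw [h, Functor.map_zero, comp_zero]

theorem restr_map_quotOnπ_comp {M N : Mod O} (ψ : (quotOn O U).obj M ⟶ N) :
    (restr O U).map ((quotOnπ O U).app M ≫ ψ) = 0 := by
  apply (ExtSupp.mem_homZ_iff U _).2
  exact (cokernel.condition_assoc _ _).trans zero_comp

theorem restr_map_comp_sectOnι [HasPushOver O U] {M N : Mod O} (ψ : M ⟶ (sectOn O U).obj N) :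
    (restr O U).map (ψ ≫ (sectOnι O U).app N) = 0 := by
  rw [← comp_unit_eq_zero_iff]
  exact (Category.assoc _ _ _).trans ((congrArg (ψ ≫ ·) (kernel.condition _)).trans comp_zero)

/-- A morphism zero on `U` factors through `Γ_Z`. -/
noncomputable def sectOnLift [HasPushOver O U] {M N : Mod O} (φ : M ⟶ N)
    (h : (restr O U).map φ = 0) : M ⟶ (sectOn O U).obj N :=
  kernel.lift _ φ ((comp_unit_eq_zero_iff U φ).2 h)

@[reassoc (attr := simp)]
theorem sectOnLift_ι [HasPushOver O U] {M N : Mod O} (φ : M ⟶ N) (h : (restr O U).map φ = 0) :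
    sectOnLift U φ h ≫ (sectOnι O U).app N = φ :=
  kernel.lift_ι _ _ _

/-- A morphism zero on `U` factors through `M/M_U`. -/
noncomputable def quotOnDesc {M N : Mod O} (φ : M ⟶ N) (h : (restr O U).map φ = 0) :
    (quotOn O U).obj M ⟶ N :=
  cokernel.desc _ φ ((ExtSupp.mem_homZ_iff U φ).1 h)

@[reassoc (attr := simp)]
theorem quotOnπ_desc {M N : Mod O} (φ : M ⟶ N) (h : (restr O U).map φ = 0) :
    (quotOnπ O U).app M ≫ quotOnDesc U φ h = φ :=
  cokernel.π_desc _ _ _

theorem quotOn_hom_ext {M N : Mod O} {a b : (quotOn O U).obj M ⟶ N}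
    (h : (quotOnπ O U).app M ≫ a = (quotOnπ O U).app M ≫ b) : a = b :=
  coequalizer.hom_ext h

theorem sectOn_hom_ext [HasPushOver O U] {M N : Mod O} {a b : M ⟶ (sectOn O U).obj N}
    (h : a ≫ (sectOnι O U).app N = b ≫ (sectOnι O U).app N) : a = b :=
  equalizer.hom_ext h

/-- `M ↦ M/M_U` is left adjoint to `Γ_Z`. -/
noncomputable def quotSectAdj [HasPushOver O U] : quotOn O U ⊣ sectOn O U :=
  Adjunction.mkOfHomEquiv
    { homEquiv := fun M N =>
        { toFun := fun ψ => sectOnLift U _ (restr_map_quotOnπ_comp U ψ)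
          invFun := fun ψ => quotOnDesc U _ (restr_map_comp_sectOnι U ψ)
          left_inv := fun ψ => quotOn_hom_ext U (by simp)
          right_inv := fun ψ => sectOn_hom_ext U (by simp) }
      homEquiv_naturality_left_symm := fun {M M' N} f g => quotOn_hom_ext U (by
        simp only [Equiv.coe_fn_symm_mk, quotOnπ_desc]
        rw [← (quotOnπ O U).naturality_assoc, quotOnπ_desc]
        simp)
      homEquiv_naturality_right := fun {M N N'} f g => sectOn_hom_ext U (by
        simp only [Equiv.coe_fn_mk, sectOnLift_ι, Category.assoc, (sectOnι O U).naturality]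
        rw [sectOnLift_ι_assoc]
        simp) }

end Supports

/-- `- ⊗ M` on presheaves, sheafified, is left adjoint to `ℋom(M, -)`. -/
noncomputable def preHomAdj (M : Mod O) [HasSheafHom M] :
    tensorRight ((toPre O).obj M) ⋙ shPre O ⊣ sheafHom M ⋙ toPre O :=
  ((preAdj O).comp (sheafHomAdj M)).ofNatIsoLeft (shPreCompTensorRight O M)

end Groth.Agent.ExtSuppLib
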