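import Groth.Agent.ExtSuppLib.Restrict
import Groth.Agent.ModShf.ToSheaf
import Mathlib.CategoryTheory.Sites.CoversTop.Basic
import Mathlib.Algebra.Category.ModuleCat.Presheaf.Submodule

/-!
# Excision for modules null on `U` when `U` and a subterminal `V` cover
-/

set_option autoImplicit false

universe w w' u

open CategoryTheory CategoryTheory.Limits Opposite

namespace Groth.Agent.ExtSuppLib

open ModSite Groth.Agent.KFlat

variable {C : Type u} [SmallCategory C] {J : GrothendieckTopology C} {O : Sheaf J CommRingCat.{u}}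

theorem app_eq_of_null (U : C) {Q : Mod O} (h : IsNullOn O U Q) {W : C} (w : W ⟶ U)
    (x : Q.val.obj (op W)) : x = 0 :=
  (ExtSupp.isNullOn_iff O U Q).1 h w x

theorem mono_of_app_injective {A B : Mod O} (f : A ⟶ B)
    (h : ∀ (W : Cᵒᵖ) (x : A.val.obj W), f.val.app W x = 0 → x = 0) : Mono f := by
  have : Mono ((toPre O).map f) := PresheafOfModules.mono_of_injective fun W =>
    (injective_iff_map_eq_zero (f.val.app W).hom).2 (h W)
  exact (SheafOfModules.forget (ringSh O)).mono_of_mono_map this

/-- `M/M_U` is null on `U`, with no hypothesis on the site. -/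
theorem isNullOn_quotOn' (U : C) (M : Mod O) : IsNullOn O U ((quotOn O U).obj M) := by
  have := restr_preservesFiniteColimits O U
  let adj := extZeroAdj O U
  have hsplit : adj.unit.app ((restr O U).obj M) ≫ (restr O U).map (adj.counit.app M) = 𝟙 _ :=
    adj.right_triangle_components M
  have : Epi ((restr O U).map (adj.counit.app M)) := by
    have : IsSplitEpi ((restr O U).map (adj.counit.app M)) := ⟨⟨⟨_, hsplit⟩⟩⟩
    infer_instance
  exact (isZero_cokernel_of_epi ((restr O U).map (adj.counit.app M))).of_iso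
    (PreservesCokernel.iso (restr O U) (adj.counit.app M))

section Excision

variable (U V : C)

/-- Everything over `V`, as a presheaf of submodules. -/
noncomputable def overSubmodule (P : preMod O) : P.Submodule where
  obj W := overSub V P W
  map {X Y} f := by
    rintro x (rfl | ⟨⟨w⟩⟩)
    · exact Or.inl (map_zero _)
    · exact Or.inr ⟨f.unop ≫ w⟩

variable {U V}

theorem isIso_shPre_overSub (hUV : J.CoversTop (fun b : Bool => cond b U V)) {Q : Mod O}
    (hQ : IsNullOn O U Q) :
    IsIso ((shPre O).map (overSubmodule V ((toPre O).obj Q)).ι) := by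
  rw [isIso_shPre_map_iff]
  refine ⟨⟨fun {X} x y h => ?_⟩, ⟨fun {W} s => J.superset_covering ?_ (hUV W)⟩⟩
  · have hxy : x = y := Subtype.ext h
    subst hxy
    exact J.superset_covering (fun Y f _ => rfl) (J.top_mem _)
  · rintro T g ⟨i, ⟨b⟩⟩
    cases i with
    | true => exact ⟨0, (map_zero _).trans (app_eq_of_null U hQ b _).symm⟩
    | false => exact ⟨⟨Q.val.map g.op s, Or.inr ⟨b⟩⟩, rfl⟩

open Classical in
/-- The component of the extension by zero of a map given over `V`. -/
noncomputable def gluePart {Q N : Mod O} (φ : (restr O V).obj Q ⟶ (restr O V).obj N) (W : Cᵒᵖ) :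
    overSub V ((toPre O).obj Q) W →ₗ[O.obj.obj W] ((toPre O).obj N).obj W :=
  if h : Nonempty (W.unop ⟶ V) then
    (show Q.val.obj W →ₗ[O.obj.obj W] N.val.obj W from (φ.val.app (op (Over.mk h.some))).hom).comp
      (overSub V ((toPre O).obj Q) W).subtype
  else 0

theorem gluePart_apply (hV : ∀ X : C, Subsingleton (X ⟶ V)) {Q N : Mod O}
    (φ : (restr O V).obj Q ⟶ (restr O V).obj N) {W : C} (v : W ⟶ V)
    (x : overSub V ((toPre O).obj Q) (op W)) :
    gluePart φ (op W) x = φ.val.app (op (Over.mk v)) x.1 := by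
  have h : Nonempty ((op W).unop ⟶ V) := ⟨v⟩
  obtain rfl : h.some = v := (hV W).elim _ _
  simp only [gluePart, dif_pos h]
  rfl

/-- Extension by zero of a map given over `V`, on the presheaf of sections over `V`. -/
noncomputable def glue (hV : ∀ X : C, Subsingleton (X ⟶ V)) {Q N : Mod O}
    (φ : (restr O V).obj Q ⟶ (restr O V).obj N) :
    (overSubmodule V ((toPre O).obj Q)).toPresheafOfModules ⟶ (toPre O).obj N where
  app W := ModuleCat.ofHom (gluePart φ W)
  naturality {X Y} f := by
    ext x
    change gluePart φ Y _ = N.val.map f (gluePart φ X x)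
    by_cases h : Nonempty (X.unop ⟶ V)
    · obtain ⟨v⟩ := h
      rw [gluePart_apply (W := X.unop) hV φ v, gluePart_apply (W := Y.unop) hV φ (f.unop ≫ v)]
      exact PresheafOfModules.naturality_apply φ.val
        (Over.homMk f.unop : Over.mk (f.unop ≫ v) ⟶ Over.mk v).op x.1
    · have hx : x = 0 := Subtype.ext (x.2.resolve_right h)
      subst hx
      exact (congrArg (gluePart φ Y) (map_zero _)).trans ((map_zero _).trans
        ((congrArg _ (map_zero (gluePart φ X))).trans (map_zero _)).symm)

theorem restr_map_bijective (hV : ∀ X : C, Subsingleton (X ⟶ V))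
    (hUV : J.CoversTop (fun b : Bool => cond b U V)) {Q : Mod O} (hQ : IsNullOn O U Q) (N : Mod O) :
    Function.Bijective fun ψ : Q ⟶ N => (restr O V).map ψ := by
  let P := (overSubmodule V ((toPre O).obj Q)).toPresheafOfModules
  let ι : P ⟶ (toPre O).obj Q := (overSubmodule V ((toPre O).obj Q)).ι
  have : IsIso ((shPre O).map ι) := isIso_shPre_overSub hUV hQ
  let e : (shPre O).obj P ≅ Q := asIso ((shPre O).map ι) ≪≫ asIso ((preAdj O).counit.app Q)
  have key : ∀ ψ : Q ⟶ N, (preAdj O).homEquiv P N (e.hom ≫ ψ) = ι ≫ (toPre O).map ψ := fun ψ => by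
    change (preAdj O).homEquiv P N (((shPre O).map ι ≫ (preAdj O).counit.app Q) ≫ ψ) = _
    rw [(preAdj O).homEquiv_naturality_right, (preAdj O).homEquiv_unit]
    simp only [Functor.map_comp, ← Category.assoc]
    rw [(preAdj O).unit_naturality, Category.assoc ι, (preAdj O).right_triangle_components,
      Category.comp_id]
  refine ⟨fun ψ ψ' h => ?_, fun φ => ?_⟩
  · apply (cancel_epi e.hom).1
    apply ((preAdj O).homEquiv P N).injective
    rw [key, key]
    refine PresheafOfModules.hom_ext fun W => ModuleCat.hom_ext (LinearMap.ext fun x => ?_)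
    rcases x.2 with hx | ⟨⟨v⟩⟩
    · change ψ.val.app W x.1 = ψ'.val.app W x.1
      rw [hx]
      exact (map_zero _).trans (map_zero _).symm
    · exact congrArg (fun χ : (restr O V).obj Q ⟶ (restr O V).obj N =>
        χ.val.app (op (Over.mk v)) x.1) h
  · refine ⟨e.inv ≫ ((preAdj O).homEquiv P N).symm (glue hV φ), ?_⟩
    let ψ : Q ⟶ N := e.inv ≫ ((preAdj O).homEquiv P N).symm (glue hV φ)
    have hι : ι ≫ (toPre O).map ψ = glue hV φ := by
      rw [← key, Iso.hom_inv_id_assoc, Equiv.apply_symm_apply]
    apply (SheafOfModules.forget _).map_injective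
    refine PresheafOfModules.hom_ext fun Y => ModuleCat.hom_ext (LinearMap.ext fun q => ?_)
    let x : P.obj (op Y.unop.left) := ⟨q, Or.inr ⟨Y.unop.hom⟩⟩
    refine (congrArg (fun χ => χ.app (op Y.unop.left) x) hι).trans ?_
    exact gluePart_apply hV φ Y.unop.hom x

theorem nonempty_ext_addEquiv_restr [HasExt.{w} (Mod O)] [HasExt.{w'} (Mod (O.over V))]
    (hV : ∀ X : C, Subsingleton (X ⟶ V)) (hUV : J.CoversTop (fun b : Bool => cond b U V))
    {Q : Mod O} (hQ : IsNullOn O U Q) (N : Mod O) (i : ℕ) :
    Nonempty (Abelian.Ext.{w} Q N i ≃+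
      Abelian.Ext.{w'} ((restr O V).obj Q) ((restr O V).obj N) i) := by
  have : HasExt.{u} (Mod O) := inferInstance
  have : HasExt.{u} (Mod (O.over V)) := inferInstance
  have := restr_preservesInjectiveObjects O V
  have := restr_preservesFiniteColimits O V
  have : PreservesFiniteLimits (restr O V) :=
    have : (restr O V).IsRightAdjoint := (extZeroAdj O V).isRightAdjoint
    inferInstance
  let e : preadditiveCoyoneda.obj (op Q) ≅
      restr O V ⋙ preadditiveCoyoneda.obj (op ((restr O V).obj Q)) :=
    NatIso.ofComponents (fun G => (AddEquiv.ofBijective (restr O V).mapAddHom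
        (restr_map_bijective hV hUV hQ G)).toAddCommGrpIso)
      (fun {G G'} g => by
        ext φ
        exact (restr O V).map_comp φ g)
  obtain ⟨e₁⟩ := SiteCoh.ExtDerived.nonempty_rightDerived_iso Q N i
  obtain ⟨e₂⟩ := SiteCoh.ExtDerived.nonempty_rightDerived_iso ((restr O V).obj Q) ((restr O V).obj N) i
  let e₀ := (e₁.symm ≪≫ (rightDerivedMapIso e i).app N ≪≫
    DerFun.rightDerivedCompIso (restr O V) (preadditiveCoyoneda.obj (op ((restr O V).obj Q))) i N ≪≫ e₂)
  exact ⟨(chgUnivAddEquiv.{w, u} _ _ _).trans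
    (e₀.addCommGroupIsoToAddEquiv.trans (chgUnivAddEquiv.{u, w'} _ _ _))⟩

/-- The kernel of `M ⟶ M/M_U` consists of sections locally supported over `U`. -/
theorem locally_over_of_quotOnπ_eq_zero (M : Mod O) {W : C} (m : M.val.obj (op W))
    (h : ((quotOnπ O U).app M).val.app (op W) m = 0) :
    ∃ S ∈ J W, ∀ {T : C} (g : T ⟶ W), S g → M.val.map g.op m = 0 ∨ Nonempty (T ⟶ U) := by
  let P := punct U ((toPre O).obj M)
  let k : M ⟶ (shPre O).obj P := ⟨punctπ U ((toPre O).obj M) ≫ (preAdj O).unit.app P⟩
  have hk : (restr O U).map k = 0 := by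
    rw [restr_map_eq_zero_iff]
    intro T t x
    change ((preAdj O).unit.app P).app (op T) ((punctπ U ((toPre O).obj M)).app (op T) x) = 0
    rw [punct_eq_zero U _ (W := op T) ⟨t⟩ ((punctπ U ((toPre O).obj M)).app (op T) x), map_zero]
  have h1 : ((preAdj O).unit.app P).app (op W) ((punctπ U ((toPre O).obj M)).app (op W) m) = 0 := by
    refine (congrArg (fun χ : M ⟶ (shPre O).obj P => χ.val.app (op W) m) (quotOnπ_desc U k hk)).symm.trans ?_
    exact (congrArg ((quotOnDesc U k hk).val.app (op W)) h).trans (map_zero _)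
  have := ((isIso_shPre_map_iff ((preAdj O).unit.app P)).1 inferInstance).1
  refine ⟨_, Presheaf.equalizerSieve_mem J
    ((PresheafOfModules.toPresheaf _).map ((preAdj O).unit.app P)) (X := op W)
    ((punctπ U ((toPre O).obj M)).app (op W) m) 0 (h1.trans (map_zero _).symm), fun {T} g hg => ?_⟩
  have h2 : (punctπ U ((toPre O).obj M)).app (op T) (M.val.map g.op m) = 0 :=
    (PresheafOfModules.naturality_apply (punctπ U ((toPre O).obj M)) g.op m).trans
      (hg.trans (map_zero _))
  exact (Submodule.Quotient.mk_eq_zero _).1 h2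

/-- Restriction to `C/V` of `M/M_U` is `(M|_V)/(M|_V)_{U × V}`. -/
theorem nonempty_restr_quotOn_iso [HasBinaryProducts C] (M : Mod O) :
    Nonempty ((quotOn (O.over V) (Over.mk (prod.snd : U ⨯ V ⟶ V))).obj ((restr O V).obj M) ≅
      (restr O V).obj ((quotOn O U).obj M)) := by
  let Z : Over V := Over.mk (prod.snd : U ⨯ V ⟶ V)
  let π' := (quotOnπ (O.over V) Z).app ((restr O V).obj M)
  have h0 : (restr (O.over V) Z).map ((restr O V).map ((quotOnπ O U).app M)) = 0 := by
    rw [restr_map_eq_zero_iff]
    intro Y y x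
    exact app_eq_of_null U (ExtSupp.isNullOn_quotOn O U M) (y.left ≫ prod.fst) _
  let a := quotOnDesc Z ((restr O V).map ((quotOnπ O U).app M)) h0
  have := restr_preservesFiniteColimits O V
  have : Epi ((quotOnπ O U).app M) := by
    change Epi (coequalizer.π _ _)
    infer_instance
  have : Epi a := epi_of_epi_fac (quotOnπ_desc Z ((restr O V).map ((quotOnπ O U).app M)) h0)
  have : Mono a := by
    refine mono_of_app_injective a fun Y s hs => ?_
    have : Epi π' := by
      change Epi (coequalizer.π _ _)
      infer_instance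
    have hsurj : Sheaf.IsLocallySurjective ((SheafOfModules.toSheaf.{u} (ringSh (O.over V))).map π') :=
      (Sheaf.isLocallySurjective_iff_epi' _ _).2
        ((SheafOfModules.toSheaf.{u} (ringSh (O.over V))).map_epi π')
    refine Sheaf.isSeparated (toAb ((quotOn (O.over V) Z).obj ((restr O V).obj M))) Y.unop _
      (hsurj.imageSieve_mem (U := Y.unop) s) _ _ (fun Y' f hf => ?_)
    obtain ⟨m, hm⟩ := hf
    have hπ : π'.val.app (op Y') m = 0 := by
      have hm0 : ((quotOnπ O U).app M).val.app (op Y'.left) m = 0 := by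
        refine (congrArg (fun χ : (restr O V).obj M ⟶ (restr O V).obj ((quotOn O U).obj M) =>
          χ.val.app (op Y') m) (quotOnπ_desc Z ((restr O V).map ((quotOnπ O U).app M)) h0)).symm.trans ?_
        refine (congrArg (a.val.app (op Y')) hm).trans ?_
        refine (PresheafOfModules.naturality_apply a.val f.op s).trans ?_
        exact (congrArg _ hs).trans (map_zero _)
      obtain ⟨S, hS, hS'⟩ := locally_over_of_quotOnπ_eq_zero M m hm0
      refine Sheaf.isSeparated (toAb ((quotOn (O.over V) Z).obj ((restr O V).obj M))) Y' _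
        (J.overEquiv_symm_mem_over Y' S hS) _ _ (fun T g hg => ?_)
      rw [Sieve.overEquiv_symm_iff] at hg
      refine Eq.trans ?_ (map_zero _).symm
      refine (PresheafOfModules.naturality_apply π'.val g.op m).symm.trans ?_
      rcases hS' g.left hg with h1 | ⟨⟨u⟩⟩
      · exact (congrArg (π'.val.app (op T)) h1).trans (map_zero _)
      · exact app_eq_of_null Z (isNullOn_quotOn' Z ((restr O V).obj M))
          (Over.homMk (prod.lift u T.hom) (prod.lift_snd _ _) : T ⟶ Z) _
    refine hm.symm.trans (hπ.trans (map_zero _).symm)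
  have := isIso_of_mono_of_epi a
  exact ⟨asIso a⟩

end Excision

end Groth.Agent.ExtSuppLib
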