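import Groth.Agent.ExtSuppLib.Basic
import Mathlib.RingTheory.LocalRing.Module

/-!
# Extending maps into `ℋom(M, I)` and `Γ_Z` along pointwise universally injective maps
-/

set_option autoImplicit false

universe w u v

open CategoryTheory CategoryTheory.Limits MonoidalCategory Opposite

namespace Groth.Agent.ExtSuppLib

open ModSite Groth.Agent.KFlat

/-- A linear map which stays injective after tensoring with any module. -/
def UInj {A : Type w} [CommRing A] {X Y : Type u} [AddCommGroup X] [Module A X] [AddCommGroup Y]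
    [Module A Y] (f : X →ₗ[A] Y) : Prop :=
  ∀ (T : Type u) [AddCommGroup T] [Module A T], Function.Injective (f.rTensor T)

theorem lTensor_injective_aux {A : Type w} [CommRing A] {K P : Type v} {T X Y Z : Type u} [AddCommGroup K]
    [Module A K] [AddCommGroup P] [Module A P] [AddCommGroup T] [Module A T] [AddCommGroup X]
    [Module A X] [AddCommGroup Y] [Module A Y] [AddCommGroup Z] [Module A Z]
    [Module.Flat A P] [Module.Flat A Z] (i : K →ₗ[A] P) (p : P →ₗ[A] T) (hi : Function.Injective i)
    (hip : Function.Exact i p) (hp : Function.Surjective p) {f : X →ₗ[A] Y} {g : Y →ₗ[A] Z}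
    (hfg : Function.Exact f g) (hf : Function.Injective f) (hg : Function.Surjective g) :
    Function.Injective (f.lTensor T) :=
  lTensor_injective_of_exact_of_exact_of_rTensor_injective hip hp hfg hg
    (Module.Flat.rTensor_preserves_injective_linearMap i hi)
    (Module.Flat.lTensor_preserves_injective_linearMap f hf)

theorem uinj_of_exact_flat {A : Type w} [CommRing A] {X Y Z : Type u} [AddCommGroup X] [Module A X]
    [AddCommGroup Y] [Module A Y] [AddCommGroup Z] [Module A Z] {f : X →ₗ[A] Y} {g : Y →ₗ[A] Z}
    (hfg : Function.Exact f g) (hf : Function.Injective f) (hg : Function.Surjective g)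
    [Module.Flat A Z] : UInj f := fun T _ _ => by
  let p : (T →₀ A) →ₗ[A] T := Finsupp.linearCombination A id
  have hp : Function.Surjective p := fun t => ⟨Finsupp.single t 1, by simp [p]⟩
  have h := lTensor_injective_aux (K := LinearMap.ker p) (P := T →₀ A) (T := T)
    (LinearMap.ker p).subtype p (Submodule.injective_subtype _)
    (LinearMap.exact_subtype_ker_map p) hp hfg hf hg
  exact (LinearMap.lTensor_inj_iff_rTensor_inj _ _).1 h

theorem uinj_of_bijective {A : Type u} [CommRing A] {X Y X' Y' : Type u} [AddCommGroup X]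
    [Module A X] [AddCommGroup Y] [Module A Y] [AddCommGroup X'] [Module A X'] [AddCommGroup Y']
    [Module A Y'] {f : X →ₗ[A] Y} {f' : X' →ₗ[A] Y'} (p : X →ₗ[A] X') (q : Y →ₗ[A] Y')
    (hp : Function.Bijective p) (hq : Function.Bijective q) (h : f'.comp p = q.comp f) (hf : UInj f) :
    UInj f' := fun T _ _ => by
  let eP := LinearEquiv.rTensor T (LinearEquiv.ofBijective p hp)
  let eQ := LinearEquiv.rTensor T (LinearEquiv.ofBijective q hq)
  have key : f'.rTensor T = eQ.toLinearMap ∘ₗ f.rTensor T ∘ₗ eP.symm.toLinearMap := by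
    rw [← LinearMap.comp_assoc, LinearEquiv.eq_comp_toLinearMap_symm]
    exact (LinearMap.rTensor_comp _ _ _).symm.trans
      ((congrArg (LinearMap.rTensor T) h).trans (LinearMap.rTensor_comp _ _ _))
  rw [key]
  exact eQ.injective.comp ((hf T).comp eP.symm.injective)

variable {C : Type u} [SmallCategory C] {J : GrothendieckTopology C} {O : Sheaf J CommRingCat.{u}}

/-- Pointwise universally injective morphisms of presheaves of modules. -/
def PUInj {P Q : preMod O} (f : P ⟶ Q) : Prop :=
  ∀ W : Cᵒᵖ, UInj (A := O.obj.obj W) (f.app W).hom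

/-- Maps into `G` extend along pointwise universally injective morphisms of presheaves. -/
def ExtP (G : Mod O) : Prop :=
  ∀ ⦃P Q : preMod O⦄ (f : P ⟶ Q), PUInj f → ∀ g : P ⟶ (toPre O).obj G,
    ∃ h : Q ⟶ (toPre O).obj G, f ≫ h = g

theorem exists_ext_injective (I : Mod O) [Injective I] {P Q : preMod O} (f : P ⟶ Q)
    (hf : ∀ W, Function.Injective (f.app W)) (g : P ⟶ (toPre O).obj I) :
    ∃ h : Q ⟶ (toPre O).obj I, f ≫ h = g := by
  have : Mono f := PresheafOfModules.mono_of_injective hf
  have : PreservesFiniteLimits (shPre O) :=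
    inferInstanceAs (PreservesFiniteLimits (PresheafOfModules.sheafification (𝟙 (ringSh O).obj)))
  have : Mono ((shPre O).map f) := (shPre O).map_mono f
  refine ⟨(preAdj O).homEquiv _ _ (Injective.factorThru (((preAdj O).homEquiv _ _).symm g)
    ((shPre O).map f)), ?_⟩
  rw [← (preAdj O).homEquiv_naturality_left, Injective.comp_factorThru, Equiv.apply_symm_apply]

theorem extP_sheafHom (M I : Mod O) [HasSheafHom M] [Injective I] : ExtP ((sheafHom M).obj I) := by
  intro P Q f hf g
  have hm : ∀ W, Function.Injective ((f ▷ (toPre O).obj M).app W) := fun W =>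
    hf W (((toPre O).obj M).obj W)
  have : Mono (f ▷ (toPre O).obj M) := PresheafOfModules.mono_of_injective hm
  have : PreservesFiniteLimits (shPre O) :=
    inferInstanceAs (PreservesFiniteLimits (PresheafOfModules.sheafification (𝟙 (ringSh O).obj)))
  have : Mono ((tensorRight ((toPre O).obj M) ⋙ shPre O).map f) :=
    (shPre O).map_mono (f ▷ (toPre O).obj M)
  refine ⟨(preHomAdj M).homEquiv Q I (Injective.factorThru (((preHomAdj M).homEquiv P I).symm g)
    ((tensorRight ((toPre O).obj M) ⋙ shPre O).map f)), ?_⟩
  refine ((preHomAdj M).homEquiv_naturality_left _ _).symm.trans ?_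
  rw [Injective.comp_factorThru]
  exact Equiv.apply_symm_apply _ _

/-! ### Killing everything over `U` -/

variable (U : C)

/-- Everything over objects mapping to `U`, zero elsewhere. -/
def overSub (P : preMod O) (W : Cᵒᵖ) : Submodule (O.obj.obj W) (P.obj W) where
  carrier := {x | x = 0 ∨ Nonempty (W.unop ⟶ U)}
  add_mem' := by
    rintro a b (rfl | ha) hb
    · simpa using hb
    · exact Or.inr ha
  zero_mem' := Or.inl rfl
  smul_mem' := by
    rintro r a (rfl | ha)
    · exact Or.inl (smul_zero r)
    · exact Or.inr ha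

/-- The quotient presheaf which is zero over objects mapping to `U`. -/
noncomputable def punct (P : preMod O) : preMod O where
  obj W := ModuleCat.of (O.obj.obj W) (P.obj W ⧸ overSub U P W)
  map {X Y} f :=
    ModuleCat.semilinearMapAddEquiv _ _ _ <|
      Submodule.mapQ (overSub U P X) (overSub U P Y) (P.restrictₛₗ f) (by
        rintro x (rfl | ⟨⟨w⟩⟩)
        · exact Or.inl (map_zero _)
        · exact Or.inr ⟨f.unop ≫ w⟩)
  map_id X := by
    ext x
    exact congrArg (Submodule.mkQ (overSub U P X)) (ConcreteCategory.congr_hom (P.map_id X) x)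
  map_comp f g := by
    ext x
    exact congrArg (Submodule.mkQ _) (P.map_comp_apply f g x)

/-- The projection onto `punct`. -/
noncomputable def punctπ (P : preMod O) : P ⟶ punct U P where
  app W := ModuleCat.ofHom (Submodule.mkQ (overSub U P W))
  naturality f := by ext x; rfl

/-- `punct` on morphisms. -/
noncomputable def punctMap {P Q : preMod O} (f : P ⟶ Q) : punct U P ⟶ punct U Q where
  app W := ModuleCat.ofHom (Submodule.mapQ (overSub U P W) (overSub U Q W) (f.app W).hom (by
    rintro x (rfl | h)
    · exact Or.inl (map_zero _)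
    · exact Or.inr h))
  naturality g := by
    ext x
    obtain ⟨x, rfl⟩ := Submodule.mkQ_surjective _ x
    exact congrArg (Submodule.mkQ _) (PresheafOfModules.naturality_apply f g x)

theorem punctπ_map {P Q : preMod O} (f : P ⟶ Q) :
    punctπ U P ≫ punctMap U f = f ≫ punctπ U Q := by
  ext W x
  rfl

/-- Maps zero over `U` factor through `punct`. -/
noncomputable def punctDesc {P Q : preMod O} (g : P ⟶ Q) (hg : VanishesOver U g) :
    punct U P ⟶ Q where
  app W := ModuleCat.ofHom (Submodule.liftQ (overSub U P W) (g.app W).hom (by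
    rintro x (rfl | ⟨⟨w⟩⟩)
    · exact map_zero _
    · exact hg w x))
  naturality f := by
    ext x
    obtain ⟨x, rfl⟩ := Submodule.mkQ_surjective _ x
    exact PresheafOfModules.naturality_apply g f x

theorem punctπ_desc {P Q : preMod O} (g : P ⟶ Q) (hg : VanishesOver U g) :
    punctπ U P ≫ punctDesc U g hg = g := by
  ext W x
  rfl

theorem punct_eq_zero (P : preMod O) {W : Cᵒᵖ} (h : Nonempty (W.unop ⟶ U)) (x : (punct U P).obj W) :
    x = 0 := by
  obtain ⟨x, rfl⟩ := Submodule.mkQ_surjective _ x
  exact (Submodule.Quotient.mk_eq_zero _).2 (Or.inr h)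

theorem punctπ_bijective (P : preMod O) {W : Cᵒᵖ} (h : ¬ Nonempty (W.unop ⟶ U)) :
    Function.Bijective ((overSub U P W).mkQ) := by
  refine ⟨fun a b hab => ?_, Submodule.mkQ_surjective _⟩
  exact sub_eq_zero.1 (((Submodule.Quotient.eq _).1 hab).resolve_right h)

theorem punctMap_injective {P Q : preMod O} (f : P ⟶ Q) (W : Cᵒᵖ)
    (hf : Function.Injective (f.app W)) : Function.Injective ((punctMap U f).app W) := by
  by_cases h : Nonempty (W.unop ⟶ U)
  · exact fun a b _ => (punct_eq_zero U P h a).trans (punct_eq_zero U P h b).symm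
  · intro a b hab
    obtain ⟨a, rfl⟩ := Submodule.mkQ_surjective _ a
    obtain ⟨b, rfl⟩ := Submodule.mkQ_surjective _ b
    exact congrArg _ (hf ((punctπ_bijective U Q h).1 hab))

theorem pUInj_punctMap {P Q : preMod O} {f : P ⟶ Q} (hf : PUInj f) : PUInj (punctMap U f) := by
  intro W
  by_cases h : Nonempty (W.unop ⟶ U)
  · intro T _ _
    have : Subsingleton ((punct U P).obj W) :=
      subsingleton_of_forall_eq 0 (punct_eq_zero U P h)
    exact Function.injective_of_subsingleton _
  · refine uinj_of_bijective (A := O.obj.obj W) (overSub U P W).mkQ (overSub U Q W).mkQ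
      (punctπ_bijective U P h) (punctπ_bijective U Q h) ?_ (hf W)
    rfl

theorem exists_ext_sectOn [HasPushOver O U] (G : Mod O) {P Q : preMod O} (f : P ⟶ Q)
    (hG : ∀ g : punct U P ⟶ (toPre O).obj G, ∃ h, punctMap U f ≫ h = g)
    (g : P ⟶ (toPre O).obj ((sectOn O U).obj G)) :
    ∃ h : Q ⟶ (toPre O).obj ((sectOn O U).obj G), f ≫ h = g := by
  let ι : (sectOn O U).obj G ⟶ G := (sectOnι O U).app G
  have hg : VanishesOver U (g ≫ (toPre O).map ι) := by
    have := (restr_map_eq_zero_iff_adjunct U _).1
      (restr_map_comp_sectOnι U (((preAdj O).homEquiv P ((sectOn O U).obj G)).symm g))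
    rwa [(preAdj O).homEquiv_naturality_right, Equiv.apply_symm_apply] at this
  obtain ⟨h', hh'⟩ := hG (punctDesc U _ hg)
  have h0 : VanishesOver U ((preAdj O).homEquiv Q G (((preAdj O).homEquiv Q G).symm (punctπ U Q ≫ h'))) := by
    rw [Equiv.apply_symm_apply]
    intro W w x
    change h'.app (op W) ((overSub U Q (op W)).mkQ x) = 0
    rw [punct_eq_zero U Q ⟨w⟩ ((overSub U Q (op W)).mkQ x), map_zero]
  refine ⟨(preAdj O).homEquiv _ _ (sectOnLift U _ (restr_map_eq_zero_of_vanishesOver U _ h0)), ?_⟩
  have : Mono ι := by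
    change Mono (equalizer.ι _ _)
    infer_instance
  have : Mono ((toPre O).map ι) := (toPre O).map_mono ι
  rw [← cancel_mono ((toPre O).map ι), Category.assoc, ← (preAdj O).homEquiv_naturality_right,
    sectOnLift_ι, Equiv.apply_symm_apply, ← Category.assoc, ← punctπ_map, Category.assoc, hh',
    punctπ_desc]

theorem extP_sectOn [HasPushOver O U] {G : Mod O} (hG : ExtP G) : ExtP ((sectOn O U).obj G) :=
  fun _ _ f hf g => exists_ext_sectOn U G f (hG (punctMap U f) (pUInj_punctMap U hf)) g

theorem injective_sectOn [HasPushOver O U] (I : Mod O) [Injective I] :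
    Injective ((sectOn O U).obj I) where
  factors {A B} g f _ := by
    have : Mono ((toPre O).map f) := (toPre O).map_mono f
    have hf : ∀ W, Function.Injective (((toPre O).map f).app W) :=
      PresheafOfModules.injective_of_mono _
    obtain ⟨h, hh⟩ := exists_ext_sectOn U I ((toPre O).map f)
      (exists_ext_injective I _ fun W => punctMap_injective U _ W (hf W)) ((toPre O).map g)
    exact ⟨⟨h⟩, SheafOfModules.hom_ext hh⟩

end Groth.Agent.ExtSuppLib
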