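import Groth.Agent.ExtSuppLib.Main
import Groth.Agent.S3087
import Groth.Agent.ModShf.ToSheaf
import Groth.Agent.DerFun.Basic
import Mathlib.CategoryTheory.Sites.Over

/-!
# Restriction of modules to `C/U` is exact and preserves injectives; `Ext` of `j_!`
-/

set_option autoImplicit false

universe w w' u

open CategoryTheory CategoryTheory.Limits Opposite

namespace Groth.Agent.ExtSuppLib

open ModSite

variable {C : Type u} [SmallCategory C] {J : GrothendieckTopology C} (O : Sheaf J CommRingCat.{u}) (U : C)

theorem extZero_preservesFiniteLimits : PreservesFiniteLimits (extZero O U) :=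
  ((Groth.Agent.S3087.result J U (ringSh O)).2 (extZero O U) (extZeroAdj O U)).1

theorem restr_preservesInjectiveObjects : (restr O U).PreservesInjectiveObjects := by
  have := extZero_preservesFiniteLimits O U
  exact ⟨fun {I} hI => Injective.injective_of_adjoint (extZeroAdj O U) I⟩

theorem restr_preservesFiniteColimits : PreservesFiniteColimits (restr O U) := by
  have : (restr O U).PreservesEpimorphisms := ⟨fun {M N} f _ => by
    have h1 : Epi ((SheafOfModules.toSheaf (ringSh O)).map f) :=
      (SheafOfModules.toSheaf (ringSh O)).map_epi f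
    have : ((Over.forget U).sheafPushforwardContinuous AddCommGrpCat.{u} (J.over U) J).IsLeftAdjoint :=
      ((Over.forget U).sheafAdjunctionCocontinuous AddCommGrpCat.{u} (J.over U) J).isLeftAdjoint
    have h2 : Epi (((Over.forget U).sheafPushforwardContinuous AddCommGrpCat.{u} (J.over U) J).map
        ((SheafOfModules.toSheaf (ringSh O)).map f)) := Functor.map_epi _ _
    exact (SheafOfModules.toSheaf.{u} (ringSh (O.over U))).epi_of_epi_map h2⟩
  have : (restr O U).IsRightAdjoint := (extZeroAdj O U).isRightAdjoint
  have : (restr O U).PreservesHomology :=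
    Functor.preservesHomology_of_preservesEpis_and_kernels _
  exact Functor.preservesFiniteColimits_of_preservesHomology _

/-- Change of universe for `Ext`. -/
noncomputable def chgUnivAddEquiv {A : Type*} [Category A] [Abelian A] [HasExt.{w} A] [HasExt.{w'} A]
    (X Y : A) (n : ℕ) : Abelian.Ext.{w} X Y n ≃+ Abelian.Ext.{w'} X Y n :=
  AddEquiv.mk' Abelian.Ext.chgUniv.{w'} (fun a b => by
    have := HasDerivedCategory.standard A
    ext
    simp only [Abelian.Ext.add_hom]
    exact (Abelian.Ext.homEquiv_chgUniv (a + b)).trans ((Abelian.Ext.add_hom a b).trans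
      (congrArg₂ (· + ·) (Abelian.Ext.homEquiv_chgUniv a).symm (Abelian.Ext.homEquiv_chgUniv b).symm)))

/-- `Ext^i(j_! A, N) = Ext^i_U(A, N|_U)`. -/
theorem nonempty_ext_extZero [HasExt.{w} (Mod O)] [HasExt.{w'} (Mod (O.over U))]
    (A : Mod (O.over U)) (N : Mod O) (i : ℕ) :
    Nonempty (Abelian.Ext.{w} ((extZero O U).obj A) N i ≃+
      Abelian.Ext.{w'} A ((restr O U).obj N) i) := by
  have : HasExt.{u} (Mod O) := inferInstance
  have : HasExt.{u} (Mod (O.over U)) := inferInstance
  have := restr_preservesInjectiveObjects O U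
  have := restr_preservesFiniteColimits O U
  have : PreservesFiniteLimits (restr O U) :=
    have : (restr O U).IsRightAdjoint := (extZeroAdj O U).isRightAdjoint
    inferInstance
  have : (extZero O U).Additive := (extZeroAdj O U).left_adjoint_additive
  let e : restr O U ⋙ preadditiveCoyoneda.obj (op A) ≅
      preadditiveCoyoneda.obj (op ((extZero O U).obj A)) :=
    NatIso.ofComponents (fun G => (((extZeroAdj O U).homAddEquiv A G).symm).toAddCommGrpIso)
      (fun {G G'} g => by
        ext φ
        exact (extZeroAdj O U).homEquiv_naturality_right_symm φ g)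
  obtain ⟨e₁⟩ := SiteCoh.ExtDerived.nonempty_rightDerived_iso ((extZero O U).obj A) N i
  obtain ⟨e₂⟩ := SiteCoh.ExtDerived.nonempty_rightDerived_iso A ((restr O U).obj N) i
  let e₀ := (e₁.symm ≪≫ (rightDerivedMapIso e i).symm.app N ≪≫
    DerFun.rightDerivedCompIso (restr O U) (preadditiveCoyoneda.obj (op A)) i N ≪≫ e₂)
  exact ⟨(chgUnivAddEquiv.{w, u} _ _ _).trans
    (e₀.addCommGroupIsoToAddEquiv.trans (chgUnivAddEquiv.{u, w'} _ _ _))⟩

end Groth.Agent.ExtSuppLib
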